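import Cfsg.Agent.Lib.PGroup.Blackburn.CyclicCase

/-!
Blackburn: the odd `p`-groups of rank two.
-/

set_option autoImplicit false
set_option linter.unusedSectionVars false
set_option maxHeartbeats 1000000

universe u

namespace CfsgLib.Blackburn

open scoped commutatorElement
open CfsgLib.PGroupMeta (powSub)

variable {R : Type u} [Group R] [Finite R] {p : ℕ} [Fact p.Prime]

/-- The conclusion, with the witnesses needed in the induction. -/
def Shape (p n : ℕ) {R : Type u} [Group R] (A : Subgroup R) : Prop :=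
  Cfsg.IsMetacyclic R ∨ Types p n A ∨ (p = 3 ∧ Uniserial p A ∧ Group.nilpotencyClass R = n - 1)

theorem conj_orbit {g u d a : R} (hgu : g * u * g⁻¹ = u * d) (hgd : g * d * g⁻¹ = d * a)
    (hga : g * a * g⁻¹ = a) (hda : Commute d a) : ∀ i : ℕ,
    g ^ i * u * (g ^ i)⁻¹ = u * d ^ i * a ^ i.choose 2 := by
  intro i
  induction i with
  | zero => simp
  | succ i ih =>
    calc g ^ (i + 1) * u * (g ^ (i + 1))⁻¹ = g * (g ^ i * u * (g ^ i)⁻¹) * g⁻¹ := by rw [pow_succ']; group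
      _ = (g * u * g⁻¹) * (g * d * g⁻¹) ^ i * (g * a * g⁻¹) ^ i.choose 2 := by rw [ih, conj_pow, conj_pow]; group
      _ = u * d * (d ^ i * a ^ i) * a ^ i.choose 2 := by rw [hgu, hgd, hga, hda.mul_pow]
      _ = _ := by rw [Nat.choose_succ_succ, Nat.choose_one_right, pow_succ', pow_add]; group

namespace Frame

variable {A : Subgroup R} {ζ η : R} (F : Frame p A ζ η)
include F

theorem change {ζ' : R} (hζ' : ζ' ∈ Subgroup.zpowers ζ) (h1 : ζ' ≠ 1) : Frame p A ζ' η := by
  have hle : Subgroup.zpowers ζ' = Subgroup.zpowers ζ := by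
    refine Subgroup.eq_of_le_of_card_ge (Subgroup.zpowers_le.mpr hζ') ?_
    rw [Nat.card_zpowers, Nat.card_zpowers, F.zeta_order, orderOf_eq_prime (F.exp _ (F.ze_mem hζ')) h1]
  refine ⟨F.two, F.pgroup, F.normal, F.exp, F.card, F.omega, F.ze_mem hζ', F.ze_center hζ', h1, F.eta_mem,
    hle ▸ F.eta_not, F.moved, fun a ha => ?_, fun g => hle.symm ▸ F.step g⟩
  obtain ⟨i, j, rfl⟩ := F.spans a ha
  obtain ⟨t, ht⟩ := Subgroup.mem_zpowers_iff.mp (hle.symm ▸ Subgroup.zpow_mem_zpowers ζ j)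
  exact ⟨i, t, by rw [ht]⟩

/-- The case in which the power map does not reach `A`. -/
theorem small_case {n : ℕ} (hn : Nat.card R = p ^ n)
    (hu : ∀ x ∈ Subgroup.centralizer (A : Set R), x ^ p ∈ A → x ^ p ∈ Subgroup.zpowers ζ) : Shape p n A := by
  have hp := (Fact.out : p.Prime)
  set C := Subgroup.centralizer (A : Set R) with hCdef
  haveI := F.normal
  set π := QuotientGroup.mk' A with hπ
  have hCcard : Nat.card C * p = p ^ n := by rw [← hn, ← C.card_mul_index, F.index_C]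
  set Cb := C.map π with hCb
  obtain ⟨m, hm⟩ := ((F.pgroup.to_quotient A).to_subgroup Cb).exists_card_eq
  have hcard2 : Nat.card C = p ^ (2 + m) := by
    rw [Cfsg.Agent.S4143.card_map_mk A C F.A_le, F.card, ← hCb, hm, pow_add]
  have hnm : n = m + 3 := by
    rw [hcard2, ← pow_succ] at hCcard
    have := Nat.pow_right_injective hp.two_le hCcard
    omega
  -- the elements of order `p` of the quotient
  let O : Subgroup C :=
    { carrier := {x | ((x : R) ^ p) ∈ A}
      one_mem' := by simp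
      mul_mem' := fun {x y} hx hy => by
        show ((x : R) * y) ^ p ∈ A
        rw [F.omega_mul_pow x.2 y.2 hx]
        exact mul_mem hx hy
      inv_mem' := fun {x} hx => by
        show (x : R)⁻¹ ^ p ∈ A
        rw [inv_pow]; exact inv_mem hx }
  let ψ : O →* Subgroup.zpowers ζ := MonoidHom.mk' (fun x => ⟨((x : C) : R) ^ p, hu _ x.1.2 x.2⟩)
    fun x y => Subtype.ext (F.omega_mul_pow x.1.2 y.1.2 x.2)
  let f : C →* Cb := π.subgroupMap C
  have hf : Function.Surjective f := π.subgroupMap_surjective C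
  let K : Subgroup Cb := O.map f
  have hK : ∀ q : Cb, q ^ p = 1 → q ∈ K := by
    intro q hq
    obtain ⟨x, rfl⟩ := hf q
    refine ⟨x, ?_, rfl⟩
    show (x : R) ^ p ∈ A
    rw [← QuotientGroup.eq_one_iff]
    exact congrArg Subtype.val hq
  have hKcard : Nat.card K ≤ p := by
    have hker : ∀ x : O, ψ x = 1 → (f.comp O.subtype) x = 1 := fun x hx => Subtype.ext
      ((QuotientGroup.eq_one_iff _).mpr (F.omega _ x.1.2 (congrArg Subtype.val hx)))
    have hle : ψ.ker ≤ (f.comp O.subtype).ker := fun x hx => hker x hx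
    have h1 : Nat.card K = (f.comp O.subtype).ker.index := by
      rw [Subgroup.index_ker, MonoidHom.range_comp, Subgroup.range_subtype]
    have h2 : ψ.ker.index ≤ p := by
      rw [Subgroup.index_ker]
      calc Nat.card ψ.range ≤ Nat.card (Subgroup.zpowers ζ) := Subgroup.card_le_card_group _
        _ = p := by rw [Nat.card_zpowers, F.zeta_order]
    rw [h1]
    exact (Nat.le_of_dvd (Nat.pos_of_ne_zero Subgroup.index_ne_zero_of_finite) (Subgroup.index_dvd_of_le hle)).trans h2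
  haveI := isCyclic_of_few F.two ((F.pgroup.to_quotient A).to_subgroup Cb) K hK hKcard
  obtain ⟨q, hq⟩ := IsCyclic.exists_generator (α := Cb)
  obtain ⟨z₀, rfl⟩ := hf q
  have hgen : ∀ c ∈ C, ∃ t : ℤ, ∃ a ∈ A, c = (z₀ : R) ^ t * a := by
    intro c hc
    obtain ⟨t, ht⟩ := Subgroup.mem_zpowers_iff.mp (hq (f ⟨c, hc⟩))
    have ht' : π ((z₀ : R) ^ t) = π c := by
      exact (map_zpow π _ t).trans (congrArg Subtype.val ht)
    rw [hπ, QuotientGroup.mk'_eq_mk'] at ht'
    obtain ⟨a, ha, rfl⟩ := ht'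
    exact ⟨t, a, ha, rfl⟩
  rcases Nat.eq_zero_or_pos m with rfl | hm0
  · -- the centraliser is `A`
    refine F.cyclic_case hn (by omega) (z := ζ) (F.A_le F.zeta_mem) (fun c hc => ?_) ?_ ?_
    · have hCA : C = A := (Subgroup.eq_of_le_of_card_ge F.A_le (by rw [hcard2, F.card])).symm
      exact F.spans c (hCA ▸ hc)
    · rw [F.zeta_order, show n - 2 = 1 by omega, pow_one]
    · rw [show n - 3 = 0 by omega, pow_zero, pow_one]
  have hzord : orderOf (f z₀) = p ^ m := by rw [orderOf_eq_card_of_forall_mem_zpowers hq, hm]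
  have hzpow : ∀ i : ℕ, (z₀ : R) ^ i ∈ A ↔ p ^ m ∣ i := fun i => by
    rw [← hzord, orderOf_dvd_iff_pow_eq_one, ← QuotientGroup.eq_one_iff, ← map_pow, Subtype.ext_iff]
    rfl
  set ζ' := (z₀ : R) ^ p ^ m with hζ'
  have e : ((z₀ : R) ^ p ^ (m - 1)) ^ p = ζ' := by
    rw [← pow_mul, ← pow_succ, show m - 1 + 1 = m by omega]
  have hζ'A : ζ' ∈ A := (hzpow _).mpr dvd_rfl
  have hζ'ζ : ζ' ∈ Subgroup.zpowers ζ :=
    e ▸ hu _ (pow_mem z₀.2 _) (by rw [e]; exact hζ'A)
  have hζ'1 : ζ' ≠ 1 := by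
    intro h
    have hA := (hzpow _).mp (F.omega _ (pow_mem z₀.2 (p ^ (m - 1))) (by rw [e, h]))
    have := (Nat.pow_dvd_pow_iff_le_right hp.one_lt).mp hA
    omega
  have F' := F.change hζ'ζ hζ'1
  refine F'.cyclic_case hn (by omega) (z := (z₀ : R)) z₀.2 (fun c hc => ?_) ?_ (by
    rw [show n - 3 = m by omega])
  · obtain ⟨t, a, ha, rfl⟩ := hgen c hc
    obtain ⟨i, j, rfl⟩ := F'.spans a ha
    refine ⟨i, t + ((p ^ m : ℕ) : ℤ) * j, ?_⟩
    rw [zpow_add, zpow_mul, zpow_natCast, ← hζ', ← mul_assoc, ← mul_assoc]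
    congr 1
    have hc' : Commute η (z₀ : R) := Subgroup.mem_centralizer_iff.mp z₀.2 η F.eta_mem
    exact (hc'.zpow_zpow i t).eq.symm
  · rw [show n - 2 = m + 1 by omega]
    refine orderOf_eq_prime_pow hζ'1 ?_
    rw [pow_succ, pow_mul, ← hζ', F.exp _ hζ'A]

/-- Uniserial action gives maximal class and `p = 3`. -/
theorem uniserial_case {n : ℕ} (hn : Nat.card R = p ^ n) {g u : R} (hg : g ∉ Subgroup.centralizer (A : Set R))
    (hu : u ∈ Subgroup.centralizer (A : Set R)) (huA : u ^ p ∈ A) (huζ : u ^ p ∉ Subgroup.zpowers ζ)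
    (ha : (u⁻¹ * (g * u * g⁻¹))⁻¹ * (g * (u⁻¹ * (g * u * g⁻¹)) * g⁻¹) ∉ Subgroup.zpowers ζ) :
    p = 3 ∧ Uniserial p A ∧ Group.nilpotencyClass R = n - 1 := by
  have hp := (Fact.out : p.Prime)
  haveI := F.normal
  haveI hCn := F.C_normal
  set C := Subgroup.centralizer (A : Set R) with hCdef
  set d := u⁻¹ * (g * u * g⁻¹) with hd
  set a := d⁻¹ * (g * d * g⁻¹) with hadef
  have hgu : g * u * g⁻¹ = u * d := by rw [hd]; group
  have hgd : g * d * g⁻¹ = d * a := by rw [hadef]; group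
  have hdC : d ∈ C := mul_mem (inv_mem hu) (hCn.conj_mem u hu g)
  have hdp : d ^ p = (u ^ p)⁻¹ * (g * u ^ p * g⁻¹) := by
    rw [hd, F.omega_mul_pow (inv_mem hu) (hCn.conj_mem u hu g) (by rw [inv_pow]; exact inv_mem huA),
      inv_pow, conj_pow]
  have hdA : d ^ p ∈ A := by rw [hdp]; exact mul_mem (inv_mem huA) (F.normal.conj_mem _ huA g)
  have hdne : d ^ p ≠ 1 := by
    rw [hdp, Ne, inv_mul_eq_one, eq_mul_inv_iff_mul_eq]
    exact fun h => huζ (F.fixed_mem hg huA h.symm)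
  have hdζ : d ^ p ∈ Subgroup.zpowers ζ := by
    rw [hdp]
    obtain ⟨i, j, hij⟩ := F.spans _ huA
    have h1 := F.step g
    obtain ⟨k, hk⟩ := Subgroup.mem_zpowers_iff.mp h1
    have hgη : g * η * g⁻¹ = η * ζ ^ k := by rw [hk]; group
    rw [hij, show g * (η ^ i * ζ ^ j) * g⁻¹ = (g * η ^ i * g⁻¹) * (g * ζ ^ j * g⁻¹) by group,
      ← conj_zpow (b := η), hgη, ((F.zc η).zpow_right k).mul_zpow, ((F.zc g).zpow_right j).eq, mul_inv_cancel_right,
      show (η ^ i * ζ ^ j)⁻¹ * (η ^ i * (ζ ^ k) ^ i * ζ ^ j) = (ζ ^ j)⁻¹ * (ζ ^ k) ^ i * ζ ^ j by group]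
    exact mul_mem (mul_mem (inv_mem (Subgroup.zpow_mem_zpowers ζ j))
      (zpow_mem (Subgroup.zpow_mem_zpowers ζ k) i)) (Subgroup.zpow_mem_zpowers ζ j)
  have haC : a ∈ C := mul_mem (inv_mem hdC) (hCn.conj_mem d hdC g)
  have haA : a ∈ A := by
    refine F.omega a haC ?_
    rw [hadef, F.omega_mul_pow (inv_mem hdC) (hCn.conj_mem d hdC g) (by rw [inv_pow]; exact inv_mem hdA),
      inv_pow, conj_pow, Subgroup.mem_center_iff.mp (F.ze_center hdζ) g, mul_inv_cancel_right, inv_mul_cancel]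
  have hda : Commute d a := (Subgroup.mem_centralizer_iff.mp hdC a haA).symm
  have huniser : Uniserial p A :=
    ⟨g, d, hg, hdC, hdA, haA, fun h => ha (F.center_mem haA h)⟩
  have hfix : ∀ m ∈ C, Commute g m → m ∈ Subgroup.zpowers ζ := by
    intro m hm hgm
    by_cases hmA : m ∈ A
    · exact F.fixed_mem hg hmA hgm
    exfalso
    classical
    obtain ⟨k, hk⟩ := F.pgroup m
    have hex : ∃ j : ℕ, m ^ p ^ j ∈ A := ⟨k, by rw [hk]; exact one_mem A⟩
    obtain ⟨j, hj⟩ : ∃ j, Nat.find hex = j + 1 := by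
      refine ⟨Nat.find hex - 1, ?_⟩
      have : Nat.find hex ≠ 0 := fun h => hmA (by
        have := Nat.find_spec hex
        rwa [h, pow_zero, pow_one] at this)
      omega
    have hc1 : (m ^ p ^ j) ^ p ∈ A := by rw [← pow_mul, ← pow_succ, ← hj]; exact Nat.find_spec hex
    have hc2 : m ^ p ^ j ∉ A := Nat.find_min hex (by omega)
    set c := m ^ p ^ j with hc
    have hgc : Commute g c := hgm.pow_right _
    have hcC : c ∈ C := pow_mem hm _
    have hcζ : c ^ p ∈ Subgroup.zpowers (d ^ p) := by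
      have h1 := F.fixed_mem hg hc1 (hgc.pow_right p)
      have he : Subgroup.zpowers (d ^ p) = Subgroup.zpowers ζ := by
        refine Subgroup.eq_of_le_of_card_ge (Subgroup.zpowers_le.mpr hdζ) ?_
        rw [Nat.card_zpowers, Nat.card_zpowers, F.zeta_order, orderOf_eq_prime (F.exp _ hdA) hdne]
      rwa [he]
    obtain ⟨t, ht⟩ : ∃ t : ℕ, (d ^ p) ^ t = c ^ p := mem_powers_iff_mem_zpowers.mpr hcζ
    have hα : (d ^ t)⁻¹ * c ∈ A := by
      refine F.omega _ (mul_mem (inv_mem (pow_mem hdC t)) hcC) ?_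
      rw [F.omega_mul_pow' (inv_mem (pow_mem hdC t)) hcC hc1, inv_pow, ← pow_mul, mul_comm, pow_mul, ht,
        inv_mul_cancel]
    set α := (d ^ t)⁻¹ * c with hαdef
    have hpt : ¬ p ∣ t := by
      rintro ⟨t', rfl⟩
      refine hc2 ?_
      rw [show c = d ^ (p * t') * α by rw [hαdef]; group, pow_mul]
      exact mul_mem (pow_mem hdA t') hα
    have h2 : a ^ t ∈ Subgroup.zpowers ζ := by
      have h3 : g * c * g⁻¹ = c := by rw [hgc.eq, mul_inv_cancel_right]
      rw [show c = d ^ t * α by rw [hαdef]; group,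
        show g * (d ^ t * α) * g⁻¹ = (g * d ^ t * g⁻¹) * (g * α * g⁻¹) by group, ← conj_pow, hgd,
        hda.mul_pow, mul_assoc, mul_right_inj] at h3
      obtain ⟨i, j, hij⟩ := F.spans α hα
      obtain ⟨k, hk⟩ := Subgroup.mem_zpowers_iff.mp (F.step g)
      have hgη : g * η * g⁻¹ = η * ζ ^ k := by rw [hk]; group
      have hgα : g * α * g⁻¹ = α * ζ ^ (k * i) := by
        rw [hij, show g * (η ^ i * ζ ^ j) * g⁻¹ = (g * η ^ i * g⁻¹) * (g * ζ ^ j * g⁻¹) by group,
          ← conj_zpow (b := η), hgη, ((F.zc η).zpow_right k).mul_zpow, ((F.zc g).zpow_right j).eq,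
          mul_inv_cancel_right, ← zpow_mul, mul_assoc, mul_assoc, ((Commute.refl ζ).zpow_zpow _ _).eq]
      rw [hgα, ← mul_assoc, (F.A_comm (pow_mem haA t) hα).eq, mul_assoc, mul_eq_left] at h3
      rw [eq_inv_of_mul_eq_one_left h3]
      exact inv_mem (Subgroup.zpow_mem_zpowers ζ _)
    apply ha
    have hap : a ^ p = 1 := F.exp a haA
    obtain ⟨v, hv⟩ := exists_pow_eq_self_of_coprime
      (show t.Coprime (orderOf a) from Nat.Coprime.coprime_dvd_right (orderOf_dvd_of_pow_eq_one hap)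
        ((hp.coprime_iff_not_dvd.mpr hpt).symm))
    rw [← hv]
    exact pow_mem h2 v
  have hgp : g ^ p ∈ Subgroup.zpowers ζ := hfix _ (F.pow_p_mem g) ((Commute.refl g).pow_right p)
  have hp3 : p = 3 := by
    by_contra hp3
    have hp5 : 3 < p := by
      have := hp.two_le; have := F.two; omega
    set e := a⁻¹ * (g * a * g⁻¹) with he
    have hga : g * a * g⁻¹ = a * e := by rw [he]; group
    have heA : e ∈ A := mul_mem (inv_mem haA) (F.normal.conj_mem a haA g)
    have heζ : e ∈ Subgroup.zpowers ζ := by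
      obtain ⟨i, j, hij⟩ := F.spans a haA
      obtain ⟨k, hk⟩ := Subgroup.mem_zpowers_iff.mp (F.step g)
      have hgη : g * η * g⁻¹ = η * ζ ^ k := by rw [hk]; group
      rw [he, hij, show g * (η ^ i * ζ ^ j) * g⁻¹ = (g * η ^ i * g⁻¹) * (g * ζ ^ j * g⁻¹) by group,
        ← conj_zpow (b := η), hgη, ((F.zc η).zpow_right k).mul_zpow, ((F.zc g).zpow_right j).eq, mul_inv_cancel_right,
        show (η ^ i * ζ ^ j)⁻¹ * (η ^ i * (ζ ^ k) ^ i * ζ ^ j) = (ζ ^ j)⁻¹ * (ζ ^ k) ^ i * ζ ^ j by group]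
      exact mul_mem (mul_mem (inv_mem (Subgroup.zpow_mem_zpowers ζ j))
        (zpow_mem (Subgroup.zpow_mem_zpowers ζ k) i)) (Subgroup.zpow_mem_zpowers ζ j)
    have hec := Subgroup.mem_center_iff.mp (F.ze_center heζ)
    have horb : ∀ i : ℕ, g ^ i * u * (g ^ i)⁻¹ = u * d ^ i * a ^ i.choose 2 * e ^ i.choose 3 := by
      intro i
      induction i with
      | zero => simp
      | succ i ih =>
        calc g ^ (i + 1) * u * (g ^ (i + 1))⁻¹ = g * (g ^ i * u * (g ^ i)⁻¹) * g⁻¹ := by rw [pow_succ']; group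
          _ = (g * u * g⁻¹) * (g * d * g⁻¹) ^ i * (g * a * g⁻¹) ^ i.choose 2 * (g * e * g⁻¹) ^ i.choose 3 := by
            rw [ih, conj_pow, conj_pow, conj_pow]; group
          _ = u * d * (d ^ i * a ^ i) * (a ^ i.choose 2 * e ^ i.choose 2) * e ^ i.choose 3 := by
            rw [hgu, hgd, hga, hda.mul_pow, (show Commute a e from hec a).mul_pow, hec g, mul_inv_cancel_right]
          _ = _ := by
            rw [Nat.choose_succ_succ i 1, Nat.choose_one_right, Nat.choose_succ_succ i 2, pow_succ', pow_add,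
              pow_add]
            group
    have hc := horb p
    rw [Subgroup.mem_center_iff.mp (F.ze_center hgp) u |>.symm, mul_inv_cancel_right] at hc
    obtain ⟨c2, hc2⟩ := hp.dvd_choose_self two_ne_zero (by omega : 2 < p)
    obtain ⟨c3, hc3⟩ := hp.dvd_choose_self three_ne_zero hp5
    rw [hc2, hc3, pow_mul, pow_mul, F.exp a haA, F.exp e heA, one_pow, one_pow, mul_one, mul_one] at hc
    exact hdne (mul_eq_left.mp hc.symm)
  exact ⟨hp3, huniser, F.class_of_fixed hn hg hfix⟩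

end Frame

/-- **Blackburn's theorem**, relative form. -/
theorem main (hp2 : p ≠ 2) : ∀ (n : ℕ) (R : Type u) [Group R] [Finite R], Nat.card R = p ^ n → IsPGroup p R →
    ∀ A : Subgroup R, A.Normal → (∀ a ∈ A, a ^ p = 1) → Nat.card A = p ^ 2 →
      (∀ x ∈ Subgroup.centralizer (A : Set R), x ^ p = 1 → x ∈ A) → Shape p n A := by
  have hp := (Fact.out : p.Prime)
  intro n
  induction n using Nat.strong_induction_on with
  | _ n ih =>
  intro R _ _ hn hR A hAn hexp hcard hom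
  by_cases hmv : A ≤ Subgroup.center R
  · refine Or.inl (metacyclic_of_pcentral hp2 (Nat.card R) R le_rfl hR (fun x hx => hmv (hom x
      (Subgroup.mem_centralizer_iff.mpr fun a ha => (Subgroup.mem_center_iff.mp (hmv ha) x).symm) hx)) ?_)
    rw [← hcard]
    exact Nat.card_le_card_of_injective (fun x => ⟨x.1, hom x
      (Subgroup.mem_centralizer_iff.mpr fun a ha => (Subgroup.mem_center_iff.mp (hmv ha) x).symm) x.2⟩)
      fun x y h => Subtype.ext (congrArg (fun v : A => (v : R)) h)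
  obtain ⟨ζ, η, F⟩ := exists_frame hp2 hR hAn hexp hcard hom hmv
  haveI := hAn
  haveI hCn := F.C_normal
  set C := Subgroup.centralizer (A : Set R) with hCdef
  by_cases hu : ∀ x ∈ C, x ^ p ∈ A → x ^ p ∈ Subgroup.zpowers ζ
  · exact F.small_case hn hu
  push Not at hu
  obtain ⟨u, huC, huA, huζ⟩ := hu
  by_cases hQ : ∃ g, g ∉ C ∧ (u⁻¹ * (g * u * g⁻¹))⁻¹ * (g * (u⁻¹ * (g * u * g⁻¹)) * g⁻¹) ∉ Subgroup.zpowers ζ
  · obtain ⟨g, hg, ha⟩ := hQ
    exact Or.inr (Or.inr (F.uniserial_case hn hg huC huA huζ ha))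
  push Not at hQ
  -- displacement of `u`
  have hdisp : ∀ g, g ∉ C → ∀ d, d = u⁻¹ * (g * u * g⁻¹) →
      d ∈ C ∧ d ^ p ∈ A ∧ d ^ p ≠ 1 ∧ d⁻¹ * (g * d * g⁻¹) ∈ Subgroup.zpowers ζ := by
    intro g hg d hd
    have hdp : d ^ p = (u ^ p)⁻¹ * (g * u ^ p * g⁻¹) := by
      rw [hd, F.omega_mul_pow (inv_mem huC) (hCn.conj_mem u huC g) (by rw [inv_pow]; exact inv_mem huA),
        inv_pow, conj_pow]
    refine ⟨hd ▸ mul_mem (inv_mem huC) (hCn.conj_mem u huC g), ?_, ?_, hd ▸ hQ g hg⟩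
    · rw [hdp]; exact mul_mem (inv_mem huA) (hAn.conj_mem _ huA g)
    · rw [hdp, Ne, inv_mul_eq_one, eq_mul_inv_iff_mul_eq]
      exact fun h => huζ (F.fixed_mem hg huA h.symm)
  have hout : ∀ x : R, x ^ p ∈ A → x ∈ C := by
    intro x hx
    by_contra hxC
    obtain ⟨hdC, hdA, hdne, haζ⟩ := hdisp x hxC _ rfl
    set d := u⁻¹ * (x * u * x⁻¹) with hd
    set a := d⁻¹ * (x * d * x⁻¹) with ha
    have hc := conj_orbit (g := x) (u := u) (d := d) (a := a) (by rw [hd]; group) (by rw [ha]; group)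
      (by rw [Subgroup.mem_center_iff.mp (F.ze_center haζ) x, mul_inv_cancel_right])
      (Subgroup.mem_center_iff.mp (F.ze_center haζ) d) p
    obtain ⟨c2, hc2⟩ := hp.dvd_choose_self two_ne_zero (by have := hp.two_le; omega : 2 < p)
    rw [Subgroup.mem_centralizer_iff.mp huC _ hx, mul_inv_cancel_right, hc2, pow_mul,
      F.exp a (F.ze_mem haζ), one_pow, mul_one] at hc
    exact hdne (mul_eq_left.mp hc.symm)
  -- the quotient
  let O : Subgroup R :=
    { carrier := {x | x ^ p ∈ A}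
      one_mem' := by simp
      mul_mem' := fun {x y} hx hy => by
        show (x * y) ^ p ∈ A
        rw [F.omega_mul_pow (hout x hx) (hout y hy) hx]
        exact mul_mem hx hy
      inv_mem' := fun {x} hx => by
        show x⁻¹ ^ p ∈ A
        rw [inv_pow]; exact inv_mem hx }
  haveI hOn : O.Normal := ⟨fun x hx g => by
    show (g * x * g⁻¹) ^ p ∈ A
    rw [conj_pow]; exact hAn.conj_mem _ hx g⟩
  have hAO : A ≤ O := fun x hx => by
    show x ^ p ∈ A
    rw [hexp x hx]; exact one_mem A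
  let ψ : O →* A := MonoidHom.mk' (fun x => ⟨(x : R) ^ p, x.2⟩)
    fun x y => Subtype.ext (F.omega_mul_pow (hout x x.2) (hout y y.2) x.2)
  obtain ⟨g₀, hg₀⟩ : ∃ g, g ∉ C := by
    by_contra hh
    push Not at hh
    exact hmv fun a ha => Subgroup.mem_center_iff.mpr fun g =>
      (Subgroup.mem_centralizer_iff.mp (hh g) a ha).symm
  obtain ⟨hd₀C, hd₀A, hd₀ne, -⟩ := hdisp g₀ hg₀ _ rfl
  set d₀ := u⁻¹ * (g₀ * u * g₀⁻¹) with hd₀
  have hψsurj : ψ.range = ⊤ := by
    refine Subgroup.eq_top_of_card_eq _ ?_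
    obtain ⟨i, hi, hi'⟩ := (Nat.dvd_prime_pow hp).mp (hcard ▸ Subgroup.card_subgroup_dvd_card ψ.range)
    have hi2 : i = 2 := by
      by_contra hne
      have hle : Nat.card ψ.range ≤ p := by
        rw [hi']; calc p ^ i ≤ p ^ 1 := Nat.pow_le_pow_right hp.pos (by omega)
          _ = p := pow_one p
      have hu1 : (⟨u ^ p, huA⟩ : A) ∈ ψ.range := ⟨⟨u, huA⟩, rfl⟩
      have hu0 : (⟨u ^ p, huA⟩ : A) ≠ 1 := fun h => huζ (by
        rw [show u ^ p = 1 from congrArg Subtype.val h]; exact one_mem _)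
      have hz : ψ.range = Subgroup.zpowers (⟨u ^ p, huA⟩ : A) := by
        refine (Subgroup.eq_of_le_of_card_ge (Subgroup.zpowers_le.mpr hu1) ?_).symm
        rwa [Nat.card_zpowers, orderOf_eq_prime (Subtype.ext (hexp _ huA)) hu0]
      have hd1 : (⟨d₀ ^ p, hd₀A⟩ : A) ∈ ψ.range := ⟨⟨d₀, hd₀A⟩, rfl⟩
      have hd0 : (⟨d₀ ^ p, hd₀A⟩ : A) ≠ 1 := fun h => hd₀ne (congrArg Subtype.val h)
      have hz' : ψ.range = Subgroup.zpowers (⟨d₀ ^ p, hd₀A⟩ : A) := by
        refine (Subgroup.eq_of_le_of_card_ge (Subgroup.zpowers_le.mpr hd1) ?_).symm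
        rwa [Nat.card_zpowers, orderOf_eq_prime (Subtype.ext (hexp _ hd₀A)) hd0]
      obtain ⟨t, ht⟩ := Subgroup.mem_zpowers_iff.mp (hz'.le hu1)
      apply huζ
      rw [show u ^ p = (d₀ ^ p) ^ t from (congrArg Subtype.val ht).symm]
      refine zpow_mem (F.center_mem hd₀A ?_) t
      -- `d₀ ^ p` is a displacement in `A`
      refine F.ze_center ?_
      obtain ⟨i, j, hij⟩ := F.spans _ huA
      obtain ⟨k, hk⟩ := Subgroup.mem_zpowers_iff.mp (F.step g₀)
      have hgη : g₀ * η * g₀⁻¹ = η * ζ ^ k := by rw [hk]; group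
      rw [hd₀, F.omega_mul_pow (inv_mem huC) (hCn.conj_mem u huC g₀) (by rw [inv_pow]; exact inv_mem huA),
        inv_pow, conj_pow, hij,
        show g₀ * (η ^ i * ζ ^ j) * g₀⁻¹ = (g₀ * η ^ i * g₀⁻¹) * (g₀ * ζ ^ j * g₀⁻¹) by group,
        ← conj_zpow (b := η), hgη, ((F.zc η).zpow_right k).mul_zpow, ((F.zc g₀).zpow_right j).eq, mul_inv_cancel_right,
        show (η ^ i * ζ ^ j)⁻¹ * (η ^ i * (ζ ^ k) ^ i * ζ ^ j) = (ζ ^ j)⁻¹ * (ζ ^ k) ^ i * ζ ^ j by group]
      exact mul_mem (mul_mem (inv_mem (Subgroup.zpow_mem_zpowers ζ j))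
        (zpow_mem (Subgroup.zpow_mem_zpowers ζ k) i)) (Subgroup.zpow_mem_zpowers ζ j)
    rw [hi', hi2, hcard]
  set π := QuotientGroup.mk' A with hπ
  set Ab := O.map π with hAb
  haveI hAbn : Ab.Normal := hOn.map π (QuotientGroup.mk'_surjective A)
  have hψker : ψ.ker = A.subgroupOf O := by
    ext x
    rw [MonoidHom.mem_ker, Subgroup.mem_subgroupOf, Subtype.ext_iff]
    exact ⟨fun h => hom x (hout x x.2) h, fun h => hexp x h⟩
  have hAbcard : Nat.card Ab = p ^ 2 := by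
    have h1 := Cfsg.Agent.S4143.card_map_mk A O hAO
    have h2 := ψ.ker.card_mul_index
    rw [Subgroup.index_ker, hψsurj, Subgroup.card_top, hψker,
      Nat.card_congr (Subgroup.subgroupOfEquivOfLe hAO).toEquiv, h1] at h2
    rw [hcard] at h2
    exact (Nat.eq_of_mul_eq_mul_left (pow_pos hp.pos 2) h2).symm
  have hAbexp : ∀ q ∈ Ab, q ^ p = 1 := by
    rintro _ ⟨x, hx, rfl⟩
    rw [← map_pow]
    exact (QuotientGroup.eq_one_iff _).mpr hx
  have hOmem : ∀ x : R, π x ∈ Ab → x ∈ O := by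
    rintro x ⟨y, hy, hxy⟩
    rw [hπ, QuotientGroup.mk'_eq_mk'] at hxy
    obtain ⟨v, hv, rfl⟩ := hxy
    exact mul_mem hy (hAO hv)
  have hCbar : ∀ x ∈ C, π x ∈ Subgroup.centralizer (Ab : Set (R ⧸ A)) := by
    intro x hx
    refine Subgroup.mem_centralizer_iff.mpr ?_
    rintro _ ⟨y, hy, rfl⟩
    show Commute _ _
    refine Commute.symm ?_
    rw [← commutatorElement_eq_one_iff_commute, ← map_commutatorElement]
    exact (QuotientGroup.eq_one_iff _).mpr (F.comm_mem (hout y hy) hx hy)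
  have hCback : ∀ x : R, π x ∈ Subgroup.centralizer (Ab : Set (R ⧸ A)) → x ∈ C := by
    intro x hx
    by_contra hxC
    obtain ⟨hdC, hdA, hdne, -⟩ := hdisp x hxC _ rfl
    have h1 := Subgroup.mem_centralizer_iff.mp hx (π u) ⟨u, huA, rfl⟩
    have h2 : u⁻¹ * (x * u * x⁻¹) ∈ A := by
      rw [← QuotientGroup.eq_one_iff]
      show π (u⁻¹ * (x * u * x⁻¹)) = 1
      rw [map_mul, map_mul, map_mul, map_inv, map_inv, ← h1]
      group
    exact hdne (hexp _ h2)
  have homb : ∀ q ∈ Subgroup.centralizer (Ab : Set (R ⧸ A)), q ^ p = 1 → q ∈ Ab := by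
    intro q _ hq
    obtain ⟨x, rfl⟩ := QuotientGroup.mk'_surjective A q
    exact ⟨x, (QuotientGroup.eq_one_iff (x ^ p)).mp hq, rfl⟩
  have hqcard : Nat.card (R ⧸ A) = p ^ (n - 2) ∧ 2 ≤ n := by
    have h := Subgroup.card_eq_card_quotient_mul_card_subgroup A
    rw [hn, hcard] at h
    have h2 : 2 ≤ n := (Nat.pow_dvd_pow_iff_le_right hp.one_lt).mp (Dvd.intro_left _ h.symm)
    refine ⟨?_, h2⟩
    rw [show p ^ n = p ^ (n - 2) * p ^ 2 by rw [← pow_add]; congr 1; omega] at h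
    exact (Nat.eq_of_mul_eq_mul_right (pow_pos hp.pos 2) h).symm
  rcases ih (n - 2) (by omega) (R ⧸ A) hqcard.1 (hR.to_quotient A) Ab hAbn hAbexp hAbcard homb with
    hmeta | hT | ⟨-, ⟨gq, xq, hgq, hxq, hxp, hdel, hdelc⟩, -⟩
  · -- lift the metacyclic structure
    left
    obtain ⟨N, hNn, hNc, hQc⟩ := hmeta
    obtain ⟨⟨aq, haq⟩, haN⟩ := hNc.exists_generator
    obtain ⟨bq, hb⟩ := hQc.exists_generator
    obtain ⟨bq, rfl⟩ := QuotientGroup.mk'_surjective N bq
    obtain ⟨a, rfl⟩ := QuotientGroup.mk'_surjective A aq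
    obtain ⟨b, rfl⟩ := QuotientGroup.mk'_surjective A bq
    have hNeq : ∀ x ∈ N, x ∈ Subgroup.zpowers (π a) := fun x hx => by
      obtain ⟨k, hk⟩ := Subgroup.mem_zpowers_iff.mp (haN ⟨x, hx⟩)
      exact Subgroup.mem_zpowers_iff.mpr ⟨k, congrArg Subtype.val hk⟩
    obtain ⟨r, hr1, hr, hbab⟩ := exists_nat_exponent (hR.to_quotient A) (c := π a) (x := π b)
      (hNeq _ (hNn.conj_mem _ haq _))
    have hα : (a ^ r)⁻¹ * (b * a * b⁻¹) ∈ A := by
      rw [← QuotientGroup.eq_one_iff]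
      show π ((a ^ r)⁻¹ * (b * a * b⁻¹)) = 1
      rw [map_mul, map_inv, map_pow, map_mul, map_mul, map_inv, hbab, inv_mul_cancel]
    set α := (a ^ r)⁻¹ * (b * a * b⁻¹) with hαdef
    have hba : b * a * b⁻¹ = a ^ r * α := by rw [hαdef]; group
    have hgen : Subgroup.closure ({π a, π b} : Set (R ⧸ A)) = ⊤ := by
      rw [eq_top_iff]
      intro q _
      obtain ⟨k, hk⟩ := Subgroup.mem_zpowers_iff.mp (hb (QuotientGroup.mk' N q))
      have hq : q * (π b ^ k)⁻¹ ∈ N := by
        rw [← QuotientGroup.eq_one_iff]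
        show QuotientGroup.mk' N (q * (π b ^ k)⁻¹) = 1
        rw [map_mul, map_inv, map_zpow, hk, mul_inv_cancel]
      have hle : Subgroup.zpowers (π a) ≤ Subgroup.closure ({π a, π b} : Set (R ⧸ A)) :=
        Subgroup.zpowers_le.mpr (Subgroup.subset_closure (Set.mem_insert _ _))
      have := mul_mem (hle (hNeq _ hq)) (zpow_mem (Subgroup.subset_closure (Set.mem_insert_of_mem (π a) rfl) :
        π b ∈ Subgroup.closure ({π a, π b} : Set (R ⧸ A))) k)
      rwa [inv_mul_cancel_right] at this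
    have hAP : A ≤ powSub p R := fun x hx => by
      obtain ⟨y, hy⟩ := (hψsurj.symm ▸ Subgroup.mem_top (⟨x, hx⟩ : A) : (⟨x, hx⟩ : A) ∈ ψ.range)
      exact Subgroup.subset_closure ⟨(y : R), congrArg Subtype.val hy⟩
    have hgenR : Subgroup.closure ({a, b} : Set R) ⊔ A = ⊤ := by
      have e : (Subgroup.closure ({a, b} : Set R)).map π = ⊤ := by
        rw [MonoidHom.map_closure, Set.image_pair, hgen]
      have := congrArg (Subgroup.comap π) e
      rwa [Subgroup.comap_map_eq, hπ, QuotientGroup.ker_mk', Subgroup.comap_top] at this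
    -- the order of the generator modulo `A`
    set q := orderOf (π a) with hqdef
    have hnotdvd : ¬ q ∣ r - 1 := by
      intro h
      have h1 : π a ^ r = π a := by
        rw [show r = (r - 1) + 1 by omega, pow_succ, orderOf_dvd_iff_pow_eq_one.mp h, one_mul]
      rw [h1, mul_inv_eq_iff_eq_mul] at hbab
      have hcom := commute_all_of_gen hgen hbab.symm
      exact hg₀ (hCback g₀ (Subgroup.mem_centralizer_iff.mpr fun q _ => (hcom q _).eq))
    have hq0 : 0 < q := orderOf_pos _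
    obtain ⟨e', he'⟩ : ∃ e', q = p ^ e' := by
      obtain ⟨k, hk⟩ := (hR.to_quotient A) (π a)
      obtain ⟨e', -, he'⟩ := (Nat.dvd_prime_pow hp).mp (orderOf_dvd_of_pow_eq_one hk)
      exact ⟨e', he'⟩
    have he0 : e' ≠ 0 := fun h => hnotdvd (by rw [he', h, pow_zero]; exact one_dvd _)
    have haqA : a ^ q ∈ A := by
      rw [← QuotientGroup.eq_one_iff]
      show π (a ^ q) = 1
      rw [map_pow, pow_orderOf_eq_one]
    have haq1 : a ^ q ≠ 1 := by
      intro h
      have h1 : (a ^ p ^ (e' - 1)) ^ p = 1 := by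
        rw [← pow_mul, ← pow_succ, show e' - 1 + 1 = e' by omega, ← he', h]
      have h2 := hom _ (hout _ (by rw [h1]; exact one_mem A)) h1
      rw [← QuotientGroup.eq_one_iff] at h2
      have h3 : q ∣ p ^ (e' - 1) := orderOf_dvd_of_pow_eq_one (by rw [← map_pow]; exact h2)
      rw [he', Nat.pow_dvd_pow_iff_le_right hp.one_lt] at h3
      omega
    obtain ⟨m, hm⟩ := hr
    have hapC : a ^ (r - 1) ∈ C := by
      rw [hm, pow_mul]; exact pow_mem (F.pow_p_mem a) m
    have haqζ : a ^ q ∈ Subgroup.zpowers ζ := by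
      by_cases haC : a ∈ C
      · refine F.center_mem haqA (Subgroup.mem_center_iff.mpr fun g => ?_)
        have hba' : Commute b (a ^ q) := by
          have h1 : b * a ^ q * b⁻¹ = a ^ q := by
            have hαq : α ^ q = 1 := by
              rw [he', show e' = (e' - 1) + 1 by omega, pow_succ', pow_mul, hexp α hα, one_pow]
            have hrq : (a ^ q) ^ (r - 1) = 1 := by
              rw [hm, pow_mul, hexp _ haqA, one_pow]
            rw [← conj_pow, hba, (show Commute (a ^ r) α from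
              (Commute.pow_left ((Subgroup.mem_centralizer_iff.mp haC α hα).symm) r)).mul_pow, hαq, mul_one,
              ← pow_mul, mul_comm, pow_mul, show r = (r - 1) + 1 by omega, pow_succ, hrq, one_mul]
          exact mul_inv_eq_iff_eq_mul.mp h1
        have hle : (⊤ : Subgroup R) ≤ Subgroup.centralizer {a ^ q} := by
          rw [← hgenR]
          refine sup_le ((Subgroup.closure_le _).mpr ?_) fun x hx => ?_
          · rintro t (rfl | rfl)
            · exact Subgroup.mem_centralizer_singleton_iff.mpr ((Commute.refl t).pow_right q).eq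
            · exact Subgroup.mem_centralizer_singleton_iff.mpr hba'.eq
          · exact Subgroup.mem_centralizer_singleton_iff.mpr (F.A_comm hx haqA).eq
        exact Subgroup.mem_centralizer_singleton_iff.mp (hle (Subgroup.mem_top g))
      · exact F.fixed_mem haC haqA ((Commute.refl a).pow_right q)
    refine metacyclic_lift hp2 hR (A := A) (Z := Subgroup.zpowers ζ) hexp hAP
      (Subgroup.zpowers_le.mpr F.zeta_center) (fun g x hx => ?_) hgenR hα hr1 ⟨m, hm⟩ hba ?_
    · obtain ⟨i, j, rfl⟩ := F.spans x hx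
      obtain ⟨k, hk⟩ := Subgroup.mem_zpowers_iff.mp (F.step g)
      have hgη : g * η * g⁻¹ = η * ζ ^ k := by rw [hk]; group
      rw [commutatorElement_def,
        show g * (η ^ i * ζ ^ j) * g⁻¹ * (η ^ i * ζ ^ j)⁻¹ =
          (g * η ^ i * g⁻¹) * (g * ζ ^ j * g⁻¹) * (ζ ^ j)⁻¹ * (η ^ i)⁻¹ by group,
        ((F.zc g).zpow_right j).eq, mul_inv_cancel_right, mul_inv_cancel_right, ← conj_zpow (b := η), hgη,
        ((F.zc η).zpow_right k).mul_zpow, (((F.zc (η ^ i)).zpow_right k).zpow_right i).eq, mul_inv_cancel_right]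
      exact zpow_mem (Subgroup.zpow_mem_zpowers ζ k) i
    · -- `ζ` is a power of the commutator
      set w := (r - 1) / Nat.gcd q (r - 1) with hw
      set t := q / Nat.gcd q (r - 1) with ht
      have hgpos : 0 < Nat.gcd q (r - 1) := Nat.gcd_pos_of_pos_left _ hq0
      have htw : (r - 1) * t = q * w := by
        rw [ht, hw, ← Nat.mul_div_assoc _ (Nat.gcd_dvd_left _ _), ← Nat.mul_div_assoc _ (Nat.gcd_dvd_right _ _),
          mul_comm]
      have hcop : Nat.Coprime t w := Nat.coprime_div_gcd_div_gcd hgpos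
      have htdvd : t ∣ p ^ e' := he' ▸ Nat.div_dvd_of_dvd (Nat.gcd_dvd_left _ _)
      have hpt : p ∣ t := by
        obtain ⟨i, -, hi⟩ := (Nat.dvd_prime_pow hp).mp htdvd
        rcases Nat.eq_zero_or_pos i with rfl | hi0
        · exfalso
          apply hnotdvd
          rw [pow_zero] at hi
          have := Nat.div_mul_cancel (Nat.gcd_dvd_left q (r - 1))
          rw [← ht, hi, one_mul] at this
          exact this ▸ Nat.gcd_dvd_right q (r - 1)
        · rw [hi]; exact dvd_pow_self p hi0.ne'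
      have hpw : ¬ p ∣ w := fun h => hp.not_dvd_one (hcop ▸ Nat.dvd_gcd hpt h)
      have hct : (a ^ (r - 1) * α) ^ t = (a ^ q) ^ w := by
        have hc : Commute (a ^ (r - 1)) α := (Subgroup.mem_centralizer_iff.mp hapC α hα).symm
        obtain ⟨t', ht'⟩ := hpt
        rw [hc.mul_pow, ← pow_mul, htw, pow_mul, ht', pow_mul α, hexp α hα, one_pow, mul_one]
      refine Subgroup.zpowers_le.mpr ?_
      have h1 : (a ^ q) ^ w ∈ Subgroup.zpowers (a ^ (r - 1) * α) := by
        rw [← hct]; exact pow_mem (Subgroup.mem_zpowers _) t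
      obtain ⟨v, hv⟩ := exists_pow_eq_self_of_coprime
        (show w.Coprime (orderOf (a ^ q)) from Nat.Coprime.coprime_dvd_right
          (orderOf_dvd_of_pow_eq_one (hexp _ haqA)) (hp.coprime_iff_not_dvd.mpr hpw).symm)
      have h2 : a ^ q ∈ Subgroup.zpowers (a ^ (r - 1) * α) := by
        rw [← hv]; exact pow_mem h1 v
      refine Subgroup.zpowers_le.mpr h2 ?_
      have he : Subgroup.zpowers (a ^ q) = Subgroup.zpowers ζ := by
        refine Subgroup.eq_of_le_of_card_ge (Subgroup.zpowers_le.mpr haqζ) ?_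
        rw [Nat.card_zpowers, Nat.card_zpowers, F.zeta_order, orderOf_eq_prime (hexp _ haqA) haq1]
      rw [he]; exact Subgroup.mem_zpowers ζ
  · exfalso
    obtain ⟨⟨x, hx, hxp⟩, -⟩ := hT
    obtain ⟨x, rfl⟩ := QuotientGroup.mk'_surjective A x
    exact hx (hCbar x (hout x ((QuotientGroup.eq_one_iff (x ^ p)).mp hxp)))
  · exfalso
    obtain ⟨g, rfl⟩ := QuotientGroup.mk'_surjective A gq
    obtain ⟨x, rfl⟩ := QuotientGroup.mk'_surjective A xq
    have hgC : g ∉ C := fun h => hgq (hCbar g h)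
    have hxC : x ∈ C := hCback x hxq
    rw [← map_pow] at hxp
    rw [← map_inv, ← map_inv, ← map_mul, ← map_mul, ← map_mul] at hdel hdelc
    set y := x ^ p with hy
    set a3 := x⁻¹ * (g * x * g⁻¹) with ha3
    have hyO : y ^ p ∈ A := hOmem y hxp
    have ha3O : a3 ^ p ∈ A := hOmem a3 hdel
    have ha3C : a3 ∈ C := hout a3 ha3O
    have hgy : g * y * g⁻¹ = y * a3 ^ p := by
      rw [hy, ← conj_pow, show g * x * g⁻¹ = x * a3 by rw [ha3]; group, F.omega_mul_pow' hxC ha3C ha3O]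
    have hyC : y ∈ C := pow_mem hxC p
    -- `y` is, up to `A`, a power of the displacement
    obtain ⟨hdC, hdA, hdne, haζ⟩ := hdisp g hgC _ rfl
    set d := u⁻¹ * (g * u * g⁻¹) with hd
    set a := d⁻¹ * (g * d * g⁻¹) with ha
    have hyp : y ^ p ∈ Subgroup.zpowers ζ := by
      refine F.fixed_mem hgC hyO (mul_inv_eq_iff_eq_mul.mp ?_)
      rw [← conj_pow, hgy, F.omega_mul_pow hyC (pow_mem ha3C p) hyO, hexp _ ha3O, mul_one]
    have he : Subgroup.zpowers (d ^ p) = Subgroup.zpowers ζ := by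
      have hdζ : d ^ p ∈ Subgroup.zpowers ζ := F.fixed_mem hgC hdA (mul_inv_eq_iff_eq_mul.mp (by
        rw [← conj_pow, show g * d * g⁻¹ = d * a by rw [ha]; group,
          F.omega_mul_pow hdC (F.A_le (F.ze_mem haζ)) hdA, hexp _ (F.ze_mem haζ), mul_one]))
      refine Subgroup.eq_of_le_of_card_ge (Subgroup.zpowers_le.mpr hdζ) ?_
      rw [Nat.card_zpowers, Nat.card_zpowers, F.zeta_order, orderOf_eq_prime (hexp _ hdA) hdne]
    obtain ⟨t, ht⟩ : ∃ t : ℕ, (d ^ p) ^ t = y ^ p := mem_powers_iff_mem_zpowers.mpr (he ▸ hyp)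
    have hαA : (d ^ t)⁻¹ * y ∈ A := by
      refine hom _ (mul_mem (inv_mem (pow_mem hdC t)) hyC) ?_
      rw [F.omega_mul_pow' (inv_mem (pow_mem hdC t)) hyC hyO, inv_pow, ← pow_mul, mul_comm, pow_mul, ht,
        inv_mul_cancel]
    set α := (d ^ t)⁻¹ * y with hα
    obtain ⟨i, j, hij⟩ := F.spans α hαA
    obtain ⟨k, hk⟩ := Subgroup.mem_zpowers_iff.mp (F.step g)
    have hgη : g * η * g⁻¹ = η * ζ ^ k := by rw [hk]; group
    have hgα : α⁻¹ * (g * α * g⁻¹) ∈ Subgroup.zpowers ζ := by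
      rw [hij, show g * (η ^ i * ζ ^ j) * g⁻¹ = (g * η ^ i * g⁻¹) * (g * ζ ^ j * g⁻¹) by group,
        ← conj_zpow (b := η), hgη, ((F.zc η).zpow_right k).mul_zpow, ((F.zc g).zpow_right j).eq, mul_inv_cancel_right,
        show (η ^ i * ζ ^ j)⁻¹ * (η ^ i * (ζ ^ k) ^ i * ζ ^ j) = (ζ ^ j)⁻¹ * (ζ ^ k) ^ i * ζ ^ j by group]
      exact mul_mem (mul_mem (inv_mem (Subgroup.zpow_mem_zpowers ζ j))
        (zpow_mem (Subgroup.zpow_mem_zpowers ζ k) i)) (Subgroup.zpow_mem_zpowers ζ j)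
    have hdel' : a3 ^ p ∈ Subgroup.zpowers ζ := by
      have hat : a ^ t ∈ Subgroup.zpowers ζ := pow_mem haζ t
      have e : a3 ^ p = (a ^ t) * (α⁻¹ * (g * α * g⁻¹)) := by
        have hyeq : y = d ^ t * α := by rw [hα]; group
        have h1 : g * y * g⁻¹ = d ^ t * a ^ t * (g * α * g⁻¹) := by
          rw [hyeq, show g * (d ^ t * α) * g⁻¹ = (g * d ^ t * g⁻¹) * (g * α * g⁻¹) by group, ← conj_pow,
            show g * d * g⁻¹ = d * a by rw [ha]; group,
            (show Commute d a from Subgroup.mem_center_iff.mp (F.ze_center haζ) d).mul_pow]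
        rw [show a3 ^ p = y⁻¹ * (g * y * g⁻¹) by rw [hgy, inv_mul_cancel_left], h1, hyeq,
          show (d ^ t * α)⁻¹ * (d ^ t * a ^ t * (g * α * g⁻¹)) = α⁻¹ * a ^ t * (g * α * g⁻¹) by group,
          ← (F.A_comm (pow_mem (F.ze_mem haζ) t) (inv_mem hαA)).eq, mul_assoc]
      rw [e]; exact mul_mem hat hgα
    apply hdelc
    refine Subgroup.mem_center_iff.mpr fun q => ?_
    obtain ⟨h, rfl⟩ := QuotientGroup.mk'_surjective A q
    have hca : (g * x * g⁻¹) = x * a3 := by rw [ha3]; group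
    have h1 : a3⁻¹ * (h * a3 * h⁻¹) ∈ A := by
      refine hom _ (mul_mem (inv_mem ha3C) (hCn.conj_mem _ ha3C h)) ?_
      rw [F.omega_mul_pow (inv_mem ha3C) (hCn.conj_mem _ ha3C h) (by rw [inv_pow]; exact inv_mem ha3O),
        inv_pow, conj_pow, Subgroup.mem_center_iff.mp (F.ze_center hdel') h, mul_inv_cancel_right, inv_mul_cancel]
    rw [← QuotientGroup.eq_one_iff] at h1
    change π (a3⁻¹ * (h * a3 * h⁻¹)) = 1 at h1
    rw [map_mul, map_mul, map_mul, map_inv, map_inv, inv_mul_eq_one, eq_mul_inv_iff_mul_eq] at h1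
    exact h1.symm

end CfsgLib.Blackburn
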