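import Mathlib
import Cfsg.Agent.Lib.PGroup.MetacyclicRank

/-!
Odd `p`-groups with cyclic derived group: a criterion for being metacyclic.
-/

set_option autoImplicit false
set_option linter.unusedSectionVars false

universe u

namespace CfsgLib.Blackburn

open scoped commutatorElement
open CfsgLib.PGroupMeta (powSub)

variable {R : Type u} [Group R] [Finite R] {p : ℕ} [Fact p.Prime]

/-- Conjugation on a normalised cyclic subgroup of a `p`-group is `≡ 1` modulo `p`. -/
theorem exists_exponent (hR : IsPGroup p R) {c x : R} (h : x * c * x⁻¹ ∈ Subgroup.zpowers c) :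
    ∃ r : ℤ, (p : ℤ) ∣ r - 1 ∧ x * c * x⁻¹ = c ^ r := by
  have hp := (Fact.out : p.Prime)
  rcases eq_or_ne c 1 with rfl | hc
  · exact ⟨1, by simp, by simp⟩
  obtain ⟨r, hr⟩ := Subgroup.mem_zpowers_iff.mp h
  refine ⟨r, ?_, hr.symm⟩
  have hi : ∀ i : ℕ, x ^ i * c * (x ^ i)⁻¹ = c ^ (r ^ i) := by
    intro i
    induction i with
    | zero => simp
    | succ i ih =>
      rw [show x ^ (i + 1) * c * (x ^ (i + 1))⁻¹ = x * (x ^ i * c * (x ^ i)⁻¹) * x⁻¹ by rw [pow_succ']; group,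
        ih, ← conj_zpow, ← hr, ← zpow_mul, pow_succ']
  obtain ⟨k, hk⟩ := hR x
  have h1 := hi (p ^ k)
  rw [hk, inv_one, one_mul, mul_one] at h1
  have h2 : (orderOf c : ℤ) ∣ r ^ (p ^ k) - 1 := by
    rw [orderOf_dvd_iff_zpow_eq_one, zpow_sub_one, ← h1, mul_inv_cancel]
  obtain ⟨l, hl⟩ := hR c
  obtain ⟨j, -, hj⟩ := (Nat.dvd_prime_pow hp).mp (orderOf_dvd_of_pow_eq_one hl)
  have hj0 : j ≠ 0 := fun h0 => hc (orderOf_eq_one_iff.mp (by rw [hj, h0, pow_zero]))
  have h3 : (p : ℤ) ∣ r ^ (p ^ k) - 1 :=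
    (Int.natCast_dvd_natCast.mpr (hj ▸ dvd_pow_self p hj0)).trans h2
  rw [← ZMod.intCast_zmod_eq_zero_iff_dvd] at h3 ⊢
  push_cast at h3 ⊢
  rwa [ZMod.pow_card_pow] at h3

theorem pow_normalised {c : R} (hN : ∀ x : R, x * c * x⁻¹ ∈ Subgroup.zpowers c) (k : ℕ) (x : R) :
    x * c ^ k * x⁻¹ ∈ Subgroup.zpowers (c ^ k) := by
  obtain ⟨r, hr⟩ := Subgroup.mem_zpowers_iff.mp (hN x)
  rw [← conj_pow, ← hr, ← zpow_natCast, ← zpow_natCast, ← zpow_mul, mul_comm r, zpow_mul]
  exact Subgroup.zpow_mem_zpowers _ r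

/-- The power formula. -/
theorem mul_pow_eq (hp2 : p ≠ 2) (hR : IsPGroup p R) {c : R}
    (hN : ∀ x : R, x * c * x⁻¹ ∈ Subgroup.zpowers c) (x y : R)
    (hd : y⁻¹ * (x⁻¹ * y * x) ∈ Subgroup.zpowers c) :
    ∃ w ∈ Subgroup.zpowers c, (x * y) ^ p = x ^ p * y ^ p * w ^ p := by
  have hp := (Fact.out : p.Prime)
  obtain ⟨i, hi⟩ := Subgroup.mem_zpowers_iff.mp hd
  obtain ⟨r, hrp, hr⟩ := exists_exponent hR (hN x⁻¹)
  obtain ⟨s, hsp, hs⟩ := exists_exponent hR (hN y⁻¹)
  rw [inv_inv] at hr hs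
  have hxy : x⁻¹ * y * x = y * c ^ i := by rw [hi]; group
  have hcx : ∀ E : ℤ, x⁻¹ * c ^ E * x = c ^ (r * E) := fun E => by
    rw [zpow_mul, ← hr, show x⁻¹ * c * x = x⁻¹ * c * x⁻¹⁻¹ by rw [inv_inv], conj_zpow, inv_inv]
  have hcy : ∀ E : ℤ, c ^ E * y = y * c ^ (s * E) := fun E => by
    rw [zpow_mul, ← hs, show y⁻¹ * c * y = y⁻¹ * c * y⁻¹⁻¹ by rw [inv_inv], conj_zpow, inv_inv]
    group
  have hF : ∀ m : ℕ, ∃ F : ℤ, (p : ℤ) ∣ F - i * m ∧ (y * c ^ i) ^ m = y ^ m * c ^ F := by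
    intro m
    induction m with
    | zero => exact ⟨0, by simp, by simp⟩
    | succ m ih =>
      obtain ⟨F, hF, e⟩ := ih
      refine ⟨s * F + i, ?_, ?_⟩
      · have : s * F + i - i * ((m + 1 : ℕ) : ℤ) = (s - 1) * F + (F - i * m) := by push_cast; ring
        rw [this]; exact dvd_add (Dvd.dvd.mul_right hsp F) hF
      · calc (y * c ^ i) ^ (m + 1) = y ^ m * (c ^ F * y) * c ^ i := by rw [pow_succ, e]; group
          _ = _ := by rw [hcy, pow_succ, zpow_add]; group
  have hE : ∀ m : ℕ, ∃ E : ℤ, (p : ℤ) ∣ E - i * (m.choose 2 : ℕ) ∧ (x * y) ^ m = x ^ m * y ^ m * c ^ E := by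
    intro m
    induction m with
    | zero => exact ⟨0, by simp, by simp⟩
    | succ m ih =>
      obtain ⟨E, hE, e⟩ := ih
      obtain ⟨F, hF', eF⟩ := hF m
      refine ⟨s * (F + r * E), ?_, ?_⟩
      · have : s * (F + r * E) - i * (((m + 1).choose 2 : ℕ) : ℤ) =
            (s - 1) * (F + r * E) + (r - 1) * E + (F - i * m) + (E - i * (m.choose 2 : ℕ)) := by
          rw [Nat.choose_succ_succ, Nat.choose_one_right]; push_cast; ring
        rw [this]
        exact dvd_add (dvd_add (dvd_add (Dvd.dvd.mul_right hsp _) (Dvd.dvd.mul_right hrp E)) hF') hE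
      · calc (x * y) ^ (m + 1) = x ^ (m + 1) * ((x⁻¹ * y ^ m * x) * (x⁻¹ * c ^ E * x) * y) := by
              rw [pow_succ, e]; group
          _ = x ^ (m + 1) * (y ^ m * (c ^ (F + r * E) * y)) := by
              rw [show x⁻¹ * y ^ m * x = (x⁻¹ * y * x) ^ m by
                  rw [show x⁻¹ * y * x = x⁻¹ * y * x⁻¹⁻¹ by rw [inv_inv], conj_pow, inv_inv],
                hxy, eF, hcx, zpow_add]
              group
          _ = _ := by rw [hcy, pow_succ y]; group
  obtain ⟨E, hE', e⟩ := hE p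
  have h2 : (p : ℤ) ∣ E := by
    have h3 : (p : ℤ) ∣ i * (p.choose 2 : ℕ) := Dvd.dvd.mul_left
      (Int.natCast_dvd_natCast.mpr (hp.dvd_choose_self two_ne_zero (by have := hp.two_le; omega))) i
    simpa using dvd_add hE' h3
  obtain ⟨k, rfl⟩ := h2
  refine ⟨c ^ k, Subgroup.zpow_mem_zpowers c k, ?_⟩
  rw [e, mul_comm (p : ℤ), zpow_mul, zpow_natCast]

/-- With cyclic derived group the `p`-th powers are closed under products. -/
theorem exists_pow_mul (hp2 : p ≠ 2) (hR : IsPGroup p R) {c : R}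
    (hD : commutator R ≤ Subgroup.zpowers c) (x y : R) : ∃ z : R, z ^ p = x ^ p * y ^ p := by
  have hp := (Fact.out : p.Prime)
  have hN : ∀ x : R, x * c * x⁻¹ ∈ Subgroup.zpowers c := fun x => by
    have h : ⁅x, c⁆ ∈ Subgroup.zpowers c :=
      hD (Subgroup.commutator_mem_commutator (Subgroup.mem_top x) (Subgroup.mem_top c))
    have := mul_mem h (Subgroup.mem_zpowers c)
    rwa [commutatorElement_def, inv_mul_cancel_right] at this
  obtain ⟨l, hl⟩ := hR c
  have key : ∀ k j : ℕ, l ≤ j + k → ∀ x y : R, y ∈ Subgroup.zpowers (c ^ p ^ j) →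
      ∃ z : R, z ^ p = x ^ p * y ^ p := by
    intro k
    induction k with
    | zero =>
      intro j hj x y hy
      have h1 : c ^ p ^ j = 1 := by
        obtain ⟨d, hd⟩ := Nat.exists_eq_add_of_le (show l ≤ j by omega)
        rw [hd, pow_add, pow_mul, hl, one_pow]
      rw [h1, Subgroup.zpowers_one_eq_bot, Subgroup.mem_bot] at hy
      exact ⟨x, by rw [hy, one_pow, mul_one]⟩
    | succ k ih =>
      intro j hj x y hy
      obtain ⟨t, rfl⟩ := Subgroup.mem_zpowers_iff.mp hy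
      obtain ⟨r, ⟨q, hq⟩, hr⟩ := exists_exponent hR (pow_normalised hN (p ^ j) x⁻¹)
      rw [inv_inv] at hr
      have hd : ((c ^ p ^ j) ^ t)⁻¹ * (x⁻¹ * (c ^ p ^ j) ^ t * x) ∈ Subgroup.zpowers (c ^ p ^ (j + 1)) := by
        rw [show x⁻¹ * (c ^ p ^ j) ^ t * x = (x⁻¹ * c ^ p ^ j * x⁻¹⁻¹) ^ t by rw [conj_zpow, inv_inv],
          inv_inv, hr, ← zpow_neg, ← zpow_mul, ← zpow_add,
          show -t + r * t = (p : ℤ) * (q * t) by rw [show r = (p : ℤ) * q + 1 by linarith]; ring,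
          zpow_mul, zpow_natCast, ← pow_mul, ← pow_succ]
        exact Subgroup.zpow_mem_zpowers _ _
      obtain ⟨w, hw, e⟩ := mul_pow_eq hp2 hR (pow_normalised hN (p ^ (j + 1))) x _ hd
      obtain ⟨z, hz⟩ := ih (j + 1) (by omega) (x * (c ^ p ^ j) ^ t) w⁻¹ (inv_mem hw)
      exact ⟨z, by rw [hz, e, inv_pow, mul_inv_cancel_right]⟩
  have hd : y⁻¹ * (x⁻¹ * y * x) ∈ Subgroup.zpowers c := by
    rw [show y⁻¹ * (x⁻¹ * y * x) = ⁅y⁻¹, x⁻¹⁆ by rw [commutatorElement_def]; group]
    exact hD (Subgroup.commutator_mem_commutator (Subgroup.mem_top _) (Subgroup.mem_top _))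
  obtain ⟨w, hw, e⟩ := mul_pow_eq hp2 hR hN x y hd
  obtain ⟨z, hz⟩ := key l 0 (by omega) (x * y) w⁻¹ (by simpa using inv_mem hw)
  exact ⟨z, by rw [hz, e, inv_pow, mul_inv_cancel_right]⟩

theorem exists_pow_of_mem_powSub (hp2 : p ≠ 2) (hR : IsPGroup p R) {c : R}
    (hD : commutator R ≤ Subgroup.zpowers c) {g : R} (hg : g ∈ powSub p R) : ∃ x, x ^ p = g := by
  induction hg using Subgroup.closure_induction with
  | mem g hg => exact hg
  | one => exact ⟨1, one_pow p⟩
  | mul a b _ _ iha ihb =>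
    obtain ⟨x, rfl⟩ := iha
    obtain ⟨y, rfl⟩ := ihb
    exact exists_pow_mul hp2 hR hD x y
  | inv a _ iha =>
    obtain ⟨x, rfl⟩ := iha
    exact ⟨x⁻¹, inv_pow x p⟩

theorem commute_all_of_gen {Q : Type*} [Group Q] {a b : Q} (h : Subgroup.closure ({a, b} : Set Q) = ⊤)
    (hab : Commute a b) : ∀ x y : Q, Commute x y := by
  intro x y
  have hle : ∀ g ∈ ({a, b} : Set Q), Subgroup.closure ({a, b} : Set Q) ≤ Subgroup.centralizer {g} := by
    intro g hg
    rw [Subgroup.closure_le]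
    intro k hk
    rw [SetLike.mem_coe, Subgroup.mem_centralizer_singleton_iff]
    rcases hg with rfl | rfl <;> rcases hk with rfl | rfl
    · rfl
    · exact hab.eq.symm
    · exact hab.eq
    · rfl
  have h2 : Subgroup.closure ({a, b} : Set Q) ≤ Subgroup.centralizer {y} := by
    rw [Subgroup.closure_le]
    intro g hg
    rw [SetLike.mem_coe, Subgroup.mem_centralizer_singleton_iff]
    have := hle g hg (h ▸ Subgroup.mem_top y)
    rw [Subgroup.mem_centralizer_singleton_iff] at this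
    exact this.symm
  exact Subgroup.mem_centralizer_singleton_iff.mp (h2 (h ▸ Subgroup.mem_top x))

/-- Replacing one of two generators of an elementary abelian group. -/
theorem exists_pair_gen {Q : Type*} [hQ : Group Q] (hQc : ∀ x y : Q, Commute x y) {p : ℕ} (hp : p.Prime) (hexp : ∀ x : Q, x ^ p = 1)
    {a b g : Q} (hgen : Subgroup.closure ({a, b} : Set Q) = ⊤) (hg : g ≠ 1) :
    Subgroup.closure ({g, b} : Set Q) = ⊤ ∨ Subgroup.closure ({g, a} : Set Q) = ⊤ := by
  letI : CommGroup Q := { hQ with mul_comm := fun x y => (hQc x y).eq }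
  have hinv : ∀ (x : Q) (j : ℤ), ¬ (p : ℤ) ∣ j → x ∈ Subgroup.zpowers (x ^ j) := by
    intro x j hj
    obtain ⟨u, v, huv⟩ := (Nat.prime_iff_prime_int.mp hp).coprime_iff_not_dvd.mpr hj
    refine Subgroup.mem_zpowers_iff.mpr ⟨v, ?_⟩
    calc (x ^ j) ^ v = (x ^ (p : ℤ)) ^ u * (x ^ j) ^ v := by rw [zpow_natCast, hexp, one_zpow, one_mul]
      _ = x ^ ((p : ℤ) * u + j * v) := by rw [← zpow_mul, ← zpow_mul, zpow_add]
      _ = x := by rw [mul_comm (p : ℤ), mul_comm j, huv, zpow_one]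
  obtain ⟨i, j, hij⟩ := Subgroup.mem_closure_pair.mp (show g ∈ Subgroup.closure ({a, b} : Set Q) by
    rw [hgen]; exact Subgroup.mem_top g)
  have hsub : ∀ c : Q, g ∈ Subgroup.closure ({g, c} : Set Q) ∧ c ∈ Subgroup.closure ({g, c} : Set Q) :=
    fun c => ⟨Subgroup.subset_closure (Set.mem_insert _ _),
      Subgroup.subset_closure (Set.mem_insert_of_mem _ rfl)⟩
  by_cases hj : (p : ℤ) ∣ j
  · left
    have hi : ¬ (p : ℤ) ∣ i := by
      rintro ⟨i', rfl⟩
      obtain ⟨j', rfl⟩ := hj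
      exact hg (by rw [← hij, zpow_mul, zpow_mul, zpow_natCast, zpow_natCast, hexp, hexp, one_zpow, one_zpow, one_mul])
    refine top_le_iff.1 (hgen.ge.trans ((Subgroup.closure_le _).mpr ?_))
    have hmem : a ^ i ∈ Subgroup.closure ({g, b} : Set Q) := by
      rw [show a ^ i = g * (b ^ j)⁻¹ by rw [← hij, mul_inv_cancel_right]]
      exact mul_mem (hsub b).1 (inv_mem (zpow_mem (hsub b).2 j))
    exact Set.insert_subset (Subgroup.zpowers_le.2 hmem (hinv a i hi)) (Set.singleton_subset_iff.mpr (hsub b).2)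
  · right
    refine top_le_iff.1 (hgen.ge.trans ((Subgroup.closure_le _).mpr ?_))
    have hmem : b ^ j ∈ Subgroup.closure ({g, a} : Set Q) := by
      rw [show b ^ j = (a ^ i)⁻¹ * g by rw [← hij, inv_mul_cancel_left]]
      exact mul_mem (inv_mem (zpow_mem (hsub a).2 i)) (hsub a).1
    exact Set.insert_subset (hsub a).2 (Set.singleton_subset_iff.mpr (Subgroup.zpowers_le.2 hmem (hinv b j hj)))

/-- **Criterion**: two generators and cyclic derived group consisting of powers. -/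
theorem metacyclic_of_gen (hp2 : p ≠ 2) (hR : IsPGroup p R) {a b c : R}
    (hab : Subgroup.closure ({a, b} : Set R) = ⊤) (hD : commutator R ≤ Subgroup.zpowers c)
    (hc : c ∈ powSub p R) : Cfsg.IsMetacyclic R := by
  classical
  have hp := (Fact.out : p.Prime)
  by_cases hcyc : IsCyclic R
  · exact ⟨⊥, inferInstance, Subgroup.isCyclic _, isCyclic_of_surjective _ (QuotientGroup.mk'_surjective _)⟩
  haveI := Fintype.ofFinite R
  obtain ⟨g, hg, hmax⟩ := Finset.exists_max_image (Finset.univ.filter fun g : R => c ∈ Subgroup.zpowers g)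
    (fun g => orderOf g) ⟨_, Finset.mem_filter.2 ⟨Finset.mem_univ _, Subgroup.mem_zpowers c⟩⟩
  have hgc : c ∈ Subgroup.zpowers g := (Finset.mem_filter.1 hg).2
  set π := QuotientGroup.mk' (powSub p R) with hπ
  have hgen : Subgroup.closure ({π a, π b} : Set (R ⧸ powSub p R)) = ⊤ := by
    rw [← Set.image_pair, ← MonoidHom.map_closure, hab,
      Subgroup.map_top_of_surjective _ (QuotientGroup.mk'_surjective _)]
  have hgP : g ∉ powSub p R := by
    intro hmem
    obtain ⟨h, hh⟩ := exists_pow_of_mem_powSub hp2 hR hD hmem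
    by_cases hg1 : g = 1
    · subst hg1
      rw [Subgroup.zpowers_one_eq_bot, Subgroup.mem_bot] at hgc
      apply hcyc
      haveI : Subsingleton R := ⟨fun x y => by
        have h1 : ∀ z : R, z = 1 := fun z => by
          have := hmax z (Finset.mem_filter.2 ⟨Finset.mem_univ _, hgc ▸ one_mem _⟩)
          rw [orderOf_one] at this
          exact orderOf_eq_one_iff.mp (le_antisymm this (orderOf_pos z))
        rw [h1 x, h1 y]⟩
      infer_instance
    have hle : c ∈ Subgroup.zpowers h :=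
      (Subgroup.zpowers_le.2 (hh ▸ pow_mem (Subgroup.mem_zpowers h) p : g ∈ Subgroup.zpowers h)) hgc
    have h3 : orderOf h ≤ orderOf g := hmax h (Finset.mem_filter.2 ⟨Finset.mem_univ _, hle⟩)
    obtain ⟨k, hk⟩ := hR h
    obtain ⟨j, -, hj⟩ := (Nat.dvd_prime_pow hp).1 (orderOf_dvd_of_pow_eq_one hk)
    rcases j with _ | j
    · rw [pow_zero, orderOf_eq_one_iff] at hj
      exact hg1 (by rw [← hh, hj, one_pow])
    · have : orderOf g ≤ p ^ j := Nat.le_of_dvd (pow_pos hp.pos j) (orderOf_dvd_of_pow_eq_one (by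
        rw [← hh, ← pow_mul, ← pow_succ', ← hj, pow_orderOf_eq_one]))
      have h5 : p ^ j < orderOf h := hj ▸ Nat.pow_lt_pow_right hp.one_lt (Nat.lt_succ_self j)
      omega
  have hQc : ∀ x y : R ⧸ powSub p R, Commute x y := by
    intro x y
    obtain ⟨x, rfl⟩ := QuotientGroup.mk'_surjective _ x
    obtain ⟨y, rfl⟩ := QuotientGroup.mk'_surjective _ y
    rw [← commutatorElement_eq_one_iff_commute, ← map_commutatorElement]
    exact (QuotientGroup.eq_one_iff _).2
      ((Subgroup.zpowers_le.2 hc) (hD (Subgroup.commutator_mem_commutator (Subgroup.mem_top _) (Subgroup.mem_top _))))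
  obtain ⟨h, hh⟩ : ∃ h : R, Subgroup.closure ({π g, π h} : Set (R ⧸ powSub p R)) = ⊤ := by
    rcases exists_pair_gen hQc
        (g := π g) (a := π a) (b := π b) (hp := hp)
        (hexp := fun x => by
          obtain ⟨x, rfl⟩ := QuotientGroup.mk'_surjective _ x
          exact (QuotientGroup.eq_one_iff _).2 (Subgroup.subset_closure ⟨x, rfl⟩))
        hgen (fun e => hgP ((QuotientGroup.eq_one_iff g).mp e)) with e | e
    · exact ⟨b, e⟩
    · exact ⟨a, e⟩
  have hgh : Subgroup.closure ({g, h} : Set R) = ⊤ := by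
    refine CfsgLib.PGroupMeta.eq_top_of_sup hR ?_
    have e : (Subgroup.closure ({g, h} : Set R)).map π = ⊤ := by
      rw [MonoidHom.map_closure, Set.image_pair, hh]
    have := congrArg (Subgroup.comap π) e
    rwa [Subgroup.comap_map_eq, hπ, QuotientGroup.ker_mk', Subgroup.comap_top] at this
  have hN : (Subgroup.zpowers g).Normal := ⟨fun n hn k => by
    have hcom : ⁅k, n⁆ ∈ Subgroup.zpowers g :=
      (Subgroup.zpowers_le.2 hgc) (hD (Subgroup.commutator_mem_commutator (Subgroup.mem_top _) (Subgroup.mem_top _)))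
    have := mul_mem hcom hn
    rwa [commutatorElement_def, inv_mul_cancel_right] at this⟩
  refine ⟨Subgroup.zpowers g, hN, inferInstance, ⟨⟨QuotientGroup.mk' _ h, fun z => ?_⟩⟩⟩
  obtain ⟨k, rfl⟩ := QuotientGroup.mk'_surjective _ z
  have hle : (⊤ : Subgroup R) ≤
      (Subgroup.zpowers (QuotientGroup.mk' (Subgroup.zpowers g) h)).comap (QuotientGroup.mk' _) := by
    rw [← hgh, Subgroup.closure_le]
    rintro t (rfl | rfl)
    · rw [SetLike.mem_coe, Subgroup.mem_comap,
        show QuotientGroup.mk' (Subgroup.zpowers t) t = 1 from (QuotientGroup.eq_one_iff t).2 (Subgroup.mem_zpowers t)]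
      exact one_mem _
    · exact Subgroup.mem_zpowers _
  exact hle (Subgroup.mem_top k)

/-- Lifting the shape `b a b⁻¹ = a ^ r α` over an elementary `A`. -/
theorem metacyclic_lift (hp2 : p ≠ 2) (hR : IsPGroup p R) {A Z : Subgroup R} (hAe : ∀ x ∈ A, x ^ p = 1)
    (hAP : A ≤ powSub p R) (hZ : Z ≤ Subgroup.center R) (hAZ : ∀ g : R, ∀ x ∈ A, ⁅g, x⁆ ∈ Z)
    {a b α : R} (hgen : Subgroup.closure ({a, b} : Set R) ⊔ A = ⊤) (hα : α ∈ A) {r : ℕ} (hr1 : 1 ≤ r)
    (hr : p ∣ r - 1) (hbab : b * a * b⁻¹ = a ^ r * α) (hZc : Z ≤ Subgroup.zpowers (a ^ (r - 1) * α)) :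
    Cfsg.IsMetacyclic R := by
  have hp := (Fact.out : p.Prime)
  obtain ⟨m, hm⟩ := hr
  have hr' : r = p * m + 1 := by omega
  rw [hm] at hZc
  set c := a ^ (p * m) * α with hc
  have hcP : c ∈ powSub p R := mul_mem (by
    rw [mul_comm, pow_mul]; exact Subgroup.subset_closure ⟨_, rfl⟩) (hAP hα)
  have hab : Subgroup.closure ({a, b} : Set R) = ⊤ :=
    CfsgLib.PGroupMeta.eq_top_of_sup hR (top_le_iff.1 (hgen ▸ sup_le_sup_left hAP _))
  haveI hZn : Z.Normal := ⟨fun z hz g => by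
    rwa [Subgroup.mem_center_iff.mp (hZ hz) g, mul_inv_cancel_right]⟩
  set π := QuotientGroup.mk' Z with hπ
  have hπα : ∀ g : R, Commute (π g) (π α) := fun g => by
    rw [← commutatorElement_eq_one_iff_commute, ← map_commutatorElement]
    exact (QuotientGroup.eq_one_iff _).2 (hAZ g α hα)
  have hπp : π α ^ p = 1 := by rw [← map_pow, hAe α hα, map_one]
  have hkey : ∀ g : R, π g ∈ Subgroup.zpowers (π c) → g ∈ Subgroup.zpowers c := by
    intro g hg
    obtain ⟨t, ht⟩ := Subgroup.mem_zpowers_iff.mp hg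
    rw [← map_zpow, QuotientGroup.mk'_eq_mk'] at ht
    obtain ⟨z, hz, rfl⟩ := ht
    exact mul_mem (Subgroup.zpow_mem_zpowers c t) (hZc hz)
  have hca : π (a * c * a⁻¹) = π c := by
    rw [map_mul, map_mul, map_inv, hc, map_mul, map_pow, ← mul_assoc, ((Commute.refl (π a)).pow_right _).eq,
      mul_assoc (π a ^ (p * m)), (hπα a).eq, mul_assoc (π a ^ (p * m)), mul_inv_cancel_right]
  have hcb : π (b * c * b⁻¹) = π c ^ r := by
    have e : b * c * b⁻¹ = (b * a * b⁻¹) ^ (p * m) * (b * α * b⁻¹) := by rw [conj_pow, hc]; group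
    rw [e, hbab, map_mul, map_pow, map_mul, map_mul π (b * α), map_mul π b, map_inv, (hπα b).eq,
      mul_inv_cancel_right, map_pow, ((hπα a).pow_left r).mul_pow, hc, map_mul, map_pow,
      ((hπα a).pow_left _).mul_pow, ← pow_mul, ← pow_mul, mul_comm r, mul_assoc, ← pow_succ, ← hr']
  have hnorm : ∀ x : R, x * c * x⁻¹ ∈ Subgroup.zpowers c := by
    intro x
    have hle : (⊤ : Subgroup R) ≤ Subgroup.normalizer (Subgroup.zpowers c : Set R) := by
      rw [← hab, Subgroup.closure_le]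
      intro g hg
      have h1 : g * c * g⁻¹ ∈ Subgroup.zpowers c := by
        apply hkey
        rcases hg with rfl | rfl
        · rw [hca]; exact Subgroup.mem_zpowers _
        · rw [hcb]; exact Subgroup.pow_mem _ (Subgroup.mem_zpowers _) r
      obtain ⟨s, hs⟩ := Subgroup.mem_zpowers_iff.mp h1
      rw [SetLike.mem_coe]
      refine Subgroup.mem_normalizer_fintype fun n hn => ?_
      obtain ⟨t, rfl⟩ := Subgroup.mem_zpowers_iff.mp hn
      show g * c ^ t * g⁻¹ ∈ Subgroup.zpowers c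
      rw [← conj_zpow, ← hs, ← zpow_mul]
      exact Subgroup.zpow_mem_zpowers _ _
    exact (Subgroup.mem_normalizer_iff.mp (hle (Subgroup.mem_top x)) c).mp (Subgroup.mem_zpowers c)
  haveI hN : (Subgroup.zpowers c).Normal := ⟨fun n hn x => by
    obtain ⟨t, rfl⟩ := Subgroup.mem_zpowers_iff.mp hn
    rw [← conj_zpow]; exact zpow_mem (hnorm x) t⟩
  refine metacyclic_of_gen hp2 hR hab ?_ hcP
  rw [commutator_def, Subgroup.commutator_le]
  intro x _ y _
  set σ := QuotientGroup.mk' (Subgroup.zpowers c) with hσ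
  have hgσ : Subgroup.closure ({σ a, σ b} : Set (R ⧸ Subgroup.zpowers c)) = ⊤ := by
    rw [← Set.image_pair, ← MonoidHom.map_closure, hab,
      Subgroup.map_top_of_surjective _ (QuotientGroup.mk'_surjective _)]
  have hσab : Commute (σ a) (σ b) := by
    have h1 : σ (a⁻¹ * (b * a * b⁻¹)) = 1 := by
      refine (QuotientGroup.eq_one_iff _).2 ?_
      rw [hbab, hr', pow_succ', show a⁻¹ * (a * a ^ (p * m) * α) = c by rw [hc]; group]
      exact Subgroup.mem_zpowers c
    rw [map_mul, map_mul, map_mul, map_inv, map_inv, inv_mul_eq_one, eq_mul_inv_iff_mul_eq] at h1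
    exact h1
  rw [← QuotientGroup.eq_one_iff]
  show σ ⁅x, y⁆ = 1
  rw [map_commutatorElement, commutatorElement_eq_one_iff_commute]
  exact commute_all_of_gen hgσ hσab _ _

end CfsgLib.Blackburn
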