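import Mathlib
import Cfsg.Agent.Lib.PGroup.Alperin
import Cfsg.Agent.Lib.PGroup.CyclicMax
import Cfsg.Agent.Lib.PGroup.Blackburn.Cyclic

/-!
Odd `p`-groups whose elements of order `p` are central: the next layer, and the rank two case.
-/

set_option autoImplicit false
set_option linter.unusedSectionVars false

universe u

namespace CfsgLib.Blackburn

open scoped commutatorElement
open CfsgLib.PGroupMeta (powSub)

variable {R : Type u} [Group R] [Finite R] {p : ℕ} [Fact p.Prime]

theorem mul_pow_two (hp2 : p ≠ 2) {u v : R} (hu : Commute ⁅v, u⁆ u) (hv : Commute ⁅v, u⁆ v)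
    (he : ⁅v, u⁆ ^ p = 1) : (u * v) ^ p = u ^ p * v ^ p := by
  have hp := (Fact.out : p.Prime)
  have hdvd : p ∣ p.choose 2 := hp.dvd_choose_self two_ne_zero (by have := hp.two_le; omega)
  obtain ⟨k, hk⟩ := hdvd
  rw [CfsgLib.PGroupAlperin.mul_pow_central (show v * u = ⁅v, u⁆ * (u * v) by rw [commutatorElement_def]; group) hu hv,
    hk, pow_mul, he, one_pow, mul_one]

/-- Elements of order `≤ p²` are central modulo the elements of order `p`. -/
theorem comm_pow_eq_one (hp2 : p ≠ 2) (hR : IsPGroup p R) (hcen : ∀ x : R, x ^ p = 1 → x ∈ Subgroup.center R)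
    {x : R} (hx : (x ^ p) ^ p = 1) (y : R) : ⁅y, x⁆ ^ p = 1 := by
  haveI : Group.IsNilpotent R := hR.isNilpotent
  have hxc := Subgroup.mem_center_iff.mp (hcen _ hx)
  have key : ∀ i : ℕ, ∀ y ∈ Subgroup.upperCentralSeries R i, ⁅y, x⁆ ^ p = 1 := by
    intro i
    induction i with
    | zero =>
      intro y hy
      rw [Subgroup.upperCentralSeries_zero, Subgroup.mem_bot] at hy
      rw [hy, commutatorElement_one_left, one_pow]
    | succ i ih =>
      intro y hy
      set d := ⁅y, x⁆ with hd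
      have hdi : d ∈ Subgroup.upperCentralSeries R i :=
        Subgroup.mem_upperCentralSeries_succ_iff.mp hy x
      have he : ⁅x, d⁆ ^ p = 1 := by
        rw [← commutatorElement_inv, inv_pow, ih d hdi, inv_one]
      have hec := Subgroup.mem_center_iff.mp (hcen _ he)
      have h1 := mul_pow_two hp2 (u := d) (v := x) (hec d).symm (hec x).symm he
      have h2 : (d * x) ^ p = x ^ p := by
        rw [show d * x = y * x * y⁻¹ by rw [hd, commutatorElement_def]; group, conj_pow, hxc y,
          mul_inv_cancel_right]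
      rw [h2] at h1
      exact mul_eq_right.mp h1.symm
  obtain ⟨n, hn⟩ := Group.IsNilpotent.nilpotent (G := R)
  exact key n y (hn ▸ Subgroup.mem_top y)

theorem pow_mul_of_omega (hp2 : p ≠ 2) (hR : IsPGroup p R) (hcen : ∀ x : R, x ^ p = 1 → x ∈ Subgroup.center R)
    {x : R} (hx : (x ^ p) ^ p = 1) (y : R) : (x * y) ^ p = x ^ p * y ^ p := by
  have he := comm_pow_eq_one hp2 hR hcen hx y
  have hec := Subgroup.mem_center_iff.mp (hcen _ he)
  exact mul_pow_two hp2 (hec x).symm (hec y).symm he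

/-- A group with one subgroup of order `p` is cyclic. -/
theorem isCyclic_of_few (hp2 : p ≠ 2) (hR : IsPGroup p R) (A : Subgroup R) (hA : ∀ x : R, x ^ p = 1 → x ∈ A)
    (hcard : Nat.card A ≤ p) : IsCyclic R := by
  by_contra h
  obtain ⟨B, -, -, hB, hB2⟩ := CfsgLib.CyclicMax.exists_normal_sq hR hp2 (⊤ : Subgroup R)
    (fun hc => h (isCyclic_of_surjective Subgroup.topEquiv.toMonoidHom Subgroup.topEquiv.surjective))
  have hle : B ≤ A := fun b hb => hA b (hB.2 b hb)
  have h1 := Nat.le_of_dvd Nat.card_pos (Subgroup.card_dvd_of_le hle)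
  have hp := (Fact.out : p.Prime)
  have : p ^ 1 < p ^ 2 := Nat.pow_lt_pow_right hp.one_lt (by norm_num)
  rw [pow_one] at this
  omega

/-- An abelian group generated by one element and a subgroup of order at most `p²` of exponent `p`. -/
theorem metacyclic_abelian (hR : IsPGroup p R) (hc : ∀ x y : R, Commute x y) {A : Subgroup R}
    (hA : ∀ x : R, x ^ p = 1 → x ∈ A) (hA2 : Nat.card A ≤ p ^ 2) {z : R}
    (hz : Subgroup.zpowers z ⊔ A = ⊤) : Cfsg.IsMetacyclic R := by
  have hp := (Fact.out : p.Prime)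
  by_cases hcyc : IsCyclic R
  · exact ⟨⊥, inferInstance, Subgroup.isCyclic _, isCyclic_of_surjective _ (QuotientGroup.mk'_surjective _)⟩
  obtain ⟨w, hw1, hw⟩ : ∃ w : R, w ≠ 1 ∧ Subgroup.zpowers w ⊔ A = ⊤ := by
    by_cases h : z = 1
    · rw [h, Subgroup.zpowers_one_eq_bot, bot_sup_eq] at hz
      obtain ⟨w, hw⟩ : ∃ w : R, w ≠ 1 := by
        by_contra hh; push Not at hh
        haveI : Subsingleton R := ⟨fun a b => by rw [hh a, hh b]⟩
        exact hcyc inferInstance
      exact ⟨w, hw, by rw [hz, sup_top_eq]⟩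
    · exact ⟨z, h, hz⟩
  haveI hN : (Subgroup.zpowers w).Normal :=
    ⟨fun n hn g => by rw [(hc g n).eq, mul_inv_cancel_right]; exact hn⟩
  refine ⟨Subgroup.zpowers w, hN, inferInstance, ?_⟩
  set π := QuotientGroup.mk' (Subgroup.zpowers w) with hπ
  have hsurj : A.map π = ⊤ := by
    have h := congrArg (Subgroup.map π) hw
    rwa [Subgroup.map_sup, Subgroup.map_top_of_surjective _ (QuotientGroup.mk'_surjective _),
      (Subgroup.map_eq_bot_iff _).mpr (QuotientGroup.ker_mk' _).ge, bot_sup_eq] at h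
  obtain ⟨k, hk⟩ := (hR.to_quotient (Subgroup.zpowers w)).exists_card_eq
  have hk1 : k ≤ 1 := by
    -- `A` meets `zpowers w`
    obtain ⟨v, hv⟩ := exists_prime_orderOf_dvd_card' (G := Subgroup.zpowers w) p (by
      obtain ⟨j, hj⟩ := (hR.to_subgroup (Subgroup.zpowers w)).exists_card_eq
      rw [hj]
      refine dvd_pow_self p fun h0 => hw1 ?_
      rw [h0, pow_zero, Subgroup.card_eq_one, Subgroup.zpowers_eq_bot] at hj
      exact hj)
    have hvA : (v : R) ∈ A := hA _ (by rw [← Subgroup.coe_pow, ← hv, pow_orderOf_eq_one, Subgroup.coe_one])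
    let f := π.comp A.subtype
    have h1 : f.ker.index * Nat.card f.ker ≤ p ^ 2 := by rw [Subgroup.index_mul_card]; exact hA2
    have h2 : f.ker.index = p ^ k := by
      rw [Subgroup.index_ker, MonoidHom.range_comp, Subgroup.range_subtype, hsurj, Subgroup.card_top, hk]
    have h3 : p ≤ Nat.card f.ker := by
      have hmem : (⟨v, hvA⟩ : A) ∈ f.ker := (QuotientGroup.eq_one_iff (v : R)).mpr v.2
      have h4 : orderOf (⟨⟨v, hvA⟩, hmem⟩ : f.ker) = p := by
        rw [Subgroup.orderOf_mk, Subgroup.orderOf_mk, Subgroup.orderOf_coe, hv]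
      calc p = orderOf (⟨⟨v, hvA⟩, hmem⟩ : f.ker) := h4.symm
        _ ≤ Nat.card f.ker := Nat.le_of_dvd Nat.card_pos (orderOf_dvd_natCard _)
    rw [h2] at h1
    have h5 : p ^ (k + 1) ≤ p ^ 2 := le_trans (by rw [pow_succ]; exact Nat.mul_le_mul_left _ h3) h1
    have := (Nat.pow_le_pow_iff_right hp.one_lt).mp h5
    omega
  interval_cases k
  · rw [pow_zero] at hk
    haveI := (Nat.card_eq_one_iff_unique.mp hk).1
    infer_instance
  · exact isCyclic_of_prime_card (p := p) (by rw [hk, pow_one])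

/-- A natural exponent `≡ 1` modulo `p`. -/
theorem exists_nat_exponent (hR : IsPGroup p R) {c x : R} (h : x * c * x⁻¹ ∈ Subgroup.zpowers c) :
    ∃ r : ℕ, 1 ≤ r ∧ p ∣ r - 1 ∧ x * c * x⁻¹ = c ^ r := by
  have hp := (Fact.out : p.Prime)
  obtain ⟨r, ⟨q, hq⟩, hr⟩ := exists_exponent hR h
  set N : ℤ := (p : ℤ) * orderOf c with hN
  have hN0 : 0 < N := mul_pos (by exact_mod_cast hp.pos) (by exact_mod_cast orderOf_pos c)
  obtain ⟨s, hs⟩ : ∃ s : ℕ, (s : ℤ) = r % N + N :=
    ⟨(r % N + N).toNat, Int.toNat_of_nonneg (by have := Int.emod_nonneg r hN0.ne'; omega)⟩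
  have hs1 : 1 ≤ s := by
    have := Int.emod_nonneg r hN0.ne'
    omega
  have hsr : (s : ℤ) = r + N * (1 - r / N) := by rw [hs, Int.emod_def]; ring
  refine ⟨s, hs1, ?_, ?_⟩
  · rw [← Int.natCast_dvd_natCast, Nat.cast_sub hs1, hsr, Nat.cast_one, hN]
    exact ⟨q + orderOf c * (1 - r / N), by rw [hN]; linear_combination hq⟩
  · rw [hr, ← zpow_natCast, hsr, zpow_add, hN, mul_assoc, mul_comm (p : ℤ), mul_assoc, zpow_mul (a := c) (m := (orderOf c : ℤ)),
      zpow_natCast c (orderOf c), pow_orderOf_eq_one, one_zpow, mul_one]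

/-- **The `p`-central case**. -/
theorem metacyclic_of_pcentral (hp2 : p ≠ 2) : ∀ (n : ℕ) (R : Type u) [Group R] [Finite R], Nat.card R ≤ n →
    IsPGroup p R → (∀ x : R, x ^ p = 1 → x ∈ Subgroup.center R) →
    Nat.card {x : R // x ^ p = 1} ≤ p ^ 2 → Cfsg.IsMetacyclic R := by
  have hp := (Fact.out : p.Prime)
  intro n
  induction n with
  | zero => intro R _ _ h; exact absurd h (not_le.mpr Nat.card_pos)
  | succ n ih =>
  intro R _ _ hn hR hcen hA2
  by_cases hcyc : IsCyclic R
  · exact ⟨⊥, inferInstance, Subgroup.isCyclic _, isCyclic_of_surjective _ (QuotientGroup.mk'_surjective _)⟩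
  let A : Subgroup R :=
    { carrier := {x | x ^ p = 1}
      one_mem' := one_pow p
      mul_mem' := fun {a b} ha hb => by
        show (a * b) ^ p = 1
        rw [(show Commute a b from (Subgroup.mem_center_iff.mp (hcen a ha) b).symm).mul_pow, ha, hb, one_mul]
      inv_mem' := fun {a} ha => by show a⁻¹ ^ p = 1; rw [inv_pow, ha, inv_one] }
  have hAc : Nat.card A ≤ p ^ 2 := hA2
  have hAcen : A ≤ Subgroup.center R := fun x hx => hcen x hx
  haveI hAn : A.Normal := ⟨fun x hx g => by
    rwa [Subgroup.mem_center_iff.mp (hcen x hx) g, mul_inv_cancel_right]⟩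
  set π := QuotientGroup.mk' A with hπ
  have hcenQ : ∀ x : R ⧸ A, x ^ p = 1 → x ∈ Subgroup.center (R ⧸ A) := by
    intro x hx
    obtain ⟨x, rfl⟩ := QuotientGroup.mk'_surjective A x
    refine Subgroup.mem_center_iff.mpr fun y => ?_
    obtain ⟨y, rfl⟩ := QuotientGroup.mk'_surjective A y
    show Commute _ _
    rw [← commutatorElement_eq_one_iff_commute, ← map_commutatorElement]
    exact (QuotientGroup.eq_one_iff _).2 (comm_pow_eq_one hp2 hR hcen ((QuotientGroup.eq_one_iff (x ^ p)).mp hx) y)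
  have hout : ∀ q : {x : R ⧸ A // x ^ p = 1}, (q.1.out ^ p) ^ p = 1 := fun q => by
    have h : (QuotientGroup.mk (q.1.out ^ p) : R ⧸ A) = 1 := by
      rw [QuotientGroup.mk_pow, QuotientGroup.out_eq', q.2]
    exact (QuotientGroup.eq_one_iff _).mp h
  let f : {x : R ⧸ A // x ^ p = 1} → A := fun q => ⟨q.1.out ^ p, hout q⟩
  have hf : Function.Injective f := by
    intro q q' h
    have h' : q.1.out ^ p = q'.1.out ^ p := congrArg Subtype.val h
    apply Subtype.ext
    rw [← QuotientGroup.out_eq' q.1, ← QuotientGroup.out_eq' q'.1, QuotientGroup.eq]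
    show (q.1.out⁻¹ * q'.1.out) ^ p = 1
    rw [pow_mul_of_omega hp2 hR hcen (by rw [inv_pow, inv_pow, hout q, inv_one]) q'.1.out, inv_pow, h',
      inv_mul_cancel]
  have hQA : Nat.card {x : R ⧸ A // x ^ p = 1} ≤ Nat.card A := Nat.card_le_card_of_injective f hf
  by_cases hAP : A ≤ powSub p R
  · have hlt : Nat.card (R ⧸ A) ≤ n := by
      have hA1 : 2 ≤ Nat.card A := by
        by_contra h
        apply hcyc
        refine isCyclic_of_few hp2 hR A (fun x hx => hx) ?_
        have := hp.two_le; omega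
      have h := Subgroup.card_eq_card_quotient_mul_card_subgroup A
      have h2 : 2 * Nat.card (R ⧸ A) ≤ Nat.card R := by
        rw [h, mul_comm]; exact Nat.mul_le_mul_left _ hA1
      have := Nat.card_pos (α := R ⧸ A)
      omega
    obtain ⟨N, hNn, hNc, hQc⟩ := ih (R ⧸ A) hlt (hR.to_quotient A) hcenQ (hQA.trans hAc)
    obtain ⟨⟨aq, ha⟩, haN⟩ := hNc.exists_generator
    obtain ⟨bq, hb⟩ := hQc.exists_generator
    obtain ⟨bq, rfl⟩ := QuotientGroup.mk'_surjective N bq
    obtain ⟨a, rfl⟩ := QuotientGroup.mk'_surjective A aq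
    obtain ⟨b, rfl⟩ := QuotientGroup.mk'_surjective A bq
    have hNeq : ∀ x ∈ N, x ∈ Subgroup.zpowers (π a) := fun x hx => by
      obtain ⟨k, hk⟩ := Subgroup.mem_zpowers_iff.mp (haN ⟨x, hx⟩)
      exact Subgroup.mem_zpowers_iff.mpr ⟨k, congrArg Subtype.val hk⟩
    obtain ⟨r, hr1, hr, hbab⟩ := exists_nat_exponent (hR.to_quotient A) (c := π a) (x := π b)
      (hNeq _ (hNn.conj_mem _ ha _))
    have hα : (a ^ r)⁻¹ * (b * a * b⁻¹) ∈ A := by
      rw [← QuotientGroup.eq_one_iff]
      show π ((a ^ r)⁻¹ * (b * a * b⁻¹)) = 1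
      rw [map_mul, map_inv, map_pow, map_mul, map_mul, map_inv, hbab, inv_mul_cancel]
    refine metacyclic_lift hp2 hR (A := A) (Z := ⊥) (fun x hx => hx) hAP bot_le (fun g x hx => ?_)
      (a := a) (b := b) ?_ hα hr1 hr (by group) bot_le
    · rw [Subgroup.mem_bot, commutatorElement_eq_one_iff_commute]
      exact Subgroup.mem_center_iff.mp (hcen x hx) g
    · have hgen : (Subgroup.closure ({a, b} : Set R)).map π = ⊤ := by
        rw [eq_top_iff, MonoidHom.map_closure, Set.image_pair]
        intro q _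
        obtain ⟨k, hk⟩ := Subgroup.mem_zpowers_iff.mp (hb (QuotientGroup.mk' N q))
        have hq : q * (π b ^ k)⁻¹ ∈ N := by
          rw [← QuotientGroup.eq_one_iff]
          show QuotientGroup.mk' N (q * (π b ^ k)⁻¹) = 1
          rw [map_mul, map_inv, map_zpow, hk, mul_inv_cancel]
        have hle : Subgroup.zpowers (π a) ≤ Subgroup.closure ({π a, π b} : Set (R ⧸ A)) :=
          Subgroup.zpowers_le.mpr (Subgroup.subset_closure (Set.mem_insert _ _))
        have := mul_mem (hle (hNeq _ hq)) (zpow_mem (Subgroup.subset_closure (Set.mem_insert_of_mem (π a) rfl) :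
          π b ∈ Subgroup.closure ({π a, π b} : Set (R ⧸ A))) k)
        rwa [inv_mul_cancel_right] at this
      have := congrArg (Subgroup.comap π) hgen
      rwa [Subgroup.comap_map_eq, hπ, QuotientGroup.ker_mk', Subgroup.comap_top] at this
  · -- the quotient has one subgroup of order `p`
    obtain ⟨α, hα, hαP⟩ := SetLike.not_le_iff_exists.mp hAP
    let K : Subgroup (R ⧸ A) :=
      { carrier := {x | x ^ p = 1}
        one_mem' := one_pow p
        mul_mem' := fun {x y} hx hy => by
          show (x * y) ^ p = 1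
          rw [(show Commute x y from (Subgroup.mem_center_iff.mp (hcenQ x hx) y).symm).mul_pow, hx, hy, one_mul]
        inv_mem' := fun {x} hx => by show x⁻¹ ^ p = 1; rw [inv_pow, hx, inv_one] }
    have hK : Nat.card K ≤ p := by
      have hlt : Nat.card K < Nat.card A := by
        refine lt_of_le_of_ne hQA fun e => hαP ?_
        have hbij := (Nat.bijective_iff_injective_and_card f).mpr ⟨hf, e⟩
        obtain ⟨q, hq⟩ := hbij.2 ⟨α, hα⟩
        exact Subgroup.subset_closure ⟨_, congrArg Subtype.val hq⟩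
      obtain ⟨i, hi⟩ := ((hR.to_quotient A).to_subgroup K).exists_card_eq
      rw [hi] at hlt ⊢
      have := (Nat.pow_lt_pow_iff_right hp.one_lt).mp (lt_of_lt_of_le hlt hAc)
      calc p ^ i ≤ p ^ 1 := Nat.pow_le_pow_right hp.pos (by omega)
        _ = p := pow_one p
    haveI := isCyclic_of_few hp2 (hR.to_quotient A) K (fun x hx => hx) hK
    obtain ⟨zq, hzq⟩ := IsCyclic.exists_generator (α := R ⧸ A)
    obtain ⟨z, rfl⟩ := QuotientGroup.mk'_surjective A zq
    have hgen : Subgroup.zpowers z ⊔ A = ⊤ := by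
      refine top_le_iff.mp fun x _ => ?_
      obtain ⟨k, hk⟩ := Subgroup.mem_zpowers_iff.mp (hzq (π x))
      rw [← map_zpow, QuotientGroup.mk'_eq_mk'] at hk
      obtain ⟨v, hv, rfl⟩ := hk
      exact mul_mem (Subgroup.mem_sup_left (Subgroup.zpow_mem_zpowers z k)) (Subgroup.mem_sup_right hv)
    refine metacyclic_abelian hR (fun x y => ?_) (A := A) (fun x hx => hx) hAc hgen
    exact commutative_of_cyclic_center_quotient π (by rw [hπ, QuotientGroup.ker_mk']; exact hAcen) x y

end CfsgLib.Blackburn
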