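import Cfsg.Agent.Lib.PGroup.Blackburn.Main
import Cfsg.Agent.Lib.UniqueSubgroup

/-!
Odd metacyclic `p`-groups without cyclic maximal subgroups, and their automorphisms of order `p`.
-/

set_option autoImplicit false
set_option linter.unusedSectionVars false
set_option maxHeartbeats 1000000

universe u

namespace CfsgLib.Blackburn

open scoped commutatorElement

variable {L : Type u} [Group L] [Finite L] {p : ℕ} [Fact p.Prime]

theorem mem_zpowers_of_dvd {c w z : L} (hw : w ∈ Subgroup.zpowers c) (hz : z ∈ Subgroup.zpowers c)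
    (h : orderOf w ∣ orderOf z) : w ∈ Subgroup.zpowers z := by
  classical
  haveI := Fintype.ofFinite (Subgroup.zpowers c)
  have h1 := IsCyclic.card_pow_eq_one_le (α := Subgroup.zpowers c) (n := orderOf z) (orderOf_pos z)
  have h2 : (Finset.univ.filter fun v : Subgroup.zpowers c => (v : L) ∈ Subgroup.zpowers z) =
      Finset.univ.filter fun v : Subgroup.zpowers c => v ^ orderOf z = 1 := by
    refine Finset.eq_of_subset_of_card_le (fun v hv => ?_) (h1.trans ?_)
    · rw [Finset.mem_filter] at hv ⊢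
      exact ⟨hv.1, Subtype.ext (orderOf_dvd_iff_pow_eq_one.mp (by
        obtain ⟨k, hk⟩ := Subgroup.mem_zpowers_iff.mp hv.2
        rw [← hk, orderOf_dvd_iff_pow_eq_one, ← zpow_natCast, ← zpow_mul, mul_comm, zpow_mul, zpow_natCast,
          pow_orderOf_eq_one, one_zpow]))⟩
    · rw [← Nat.card_zpowers, ← Fintype.card_subtype, ← Nat.card_eq_fintype_card]
      exact Nat.card_le_card_of_injective
        (fun v : Subgroup.zpowers z => (⟨⟨v.1, (Subgroup.zpowers_le.mpr hz) v.2⟩, v.2⟩ :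
          {v : Subgroup.zpowers c // (v : L) ∈ Subgroup.zpowers z}))
        fun a b e => Subtype.ext (congrArg (fun v : {v : Subgroup.zpowers c // (v : L) ∈ Subgroup.zpowers z} => ((v.1 : Subgroup.zpowers c) : L)) e)
  have h3 : (⟨w, hw⟩ : Subgroup.zpowers c) ∈ Finset.univ.filter fun v : Subgroup.zpowers c => v ^ orderOf z = 1 :=
    Finset.mem_filter.mpr ⟨Finset.mem_univ _, Subtype.ext (orderOf_dvd_iff_pow_eq_one.mp h)⟩
  rw [← h2, Finset.mem_filter] at h3
  exact h3.2

/-- The data attached to such a group: `A` is the set of elements of order dividing `p`. -/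
structure MetaData (p : ℕ) (A : Subgroup L) (c c₂ η u : L) : Prop where
  omega : ∀ y : L, y ∈ A ↔ y ^ p = 1
  spans : ∀ y ∈ A, ∃ i j : ℕ, y = η ^ i * (c₂ ^ p) ^ j
  card : Nat.card A = p ^ 2
  derived : commutator L ≤ Subgroup.zpowers c
  c2_mem : c₂ ∈ Subgroup.zpowers c
  c2_normal : ∀ y : L, y * c₂ * y⁻¹ ∈ Subgroup.zpowers c₂
  c2_order : orderOf c₂ = p ^ 2
  root : u ^ p = η
  eta_pow : η ^ p = 1
  eta_not : η ∉ Subgroup.zpowers c
  comm : Commute c₂ η
  large : p ^ 4 ≤ Nat.card L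

theorem exists_metaData (hp2 : p ≠ 2) (hL : IsPGroup p L) (hmc : Cfsg.IsMetacyclic L)
    (hnc : ∀ C : Subgroup L, IsCyclic C → C.index ≠ p) :
    (Nat.card L = 1) ∨ ∃ (A : Subgroup L) (c c₂ η u : L), MetaData p A c c₂ η u := by
  have hp := (Fact.out : p.Prime)
  obtain ⟨m, hm⟩ := hL.exists_card_eq
  rcases Nat.eq_zero_or_pos m with h0 | hm1
  · exact Or.inl (by rw [hm, h0, pow_zero])
  right
  have hsmall : ∀ g : L, ∀ j, orderOf g = p ^ j → j + 2 ≤ m := by
    intro g j hj
    by_contra h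
    have h1 : orderOf (g ^ p ^ (j - (m - 1))) = p ^ (m - 1) := by
      rw [orderOf_pow' g (pow_ne_zero _ hp.ne_zero), hj, Nat.gcd_eq_right (pow_dvd_pow p (Nat.sub_le _ _)),
        Nat.pow_div (Nat.sub_le _ _) hp.pos]
      congr 1
      omega
    refine hnc _ (Subgroup.isCyclic_zpowers (g ^ p ^ (j - (m - 1)))) ?_
    have h2 := (Subgroup.zpowers (g ^ p ^ (j - (m - 1)))).card_mul_index
    rw [Nat.card_zpowers, h1, hm] at h2
    refine Nat.eq_of_mul_eq_mul_left (pow_pos hp.pos (m - 1)) (h2.trans ?_)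
    rw [← pow_succ]
    congr 1
    omega
  obtain ⟨N, hNn, hNc, hQc⟩ := hmc
  obtain ⟨c, hNeq⟩ := (Subgroup.isCyclic_iff_exists_zpowers_eq_top (H := N)).mp hNc
  set π := QuotientGroup.mk' N with hπ
  obtain ⟨xq, hxq⟩ := hQc.exists_generator
  obtain ⟨x, rfl⟩ := QuotientGroup.mk'_surjective N xq
  have hQcard : orderOf (π x) = Nat.card (L ⧸ N) := orderOf_eq_card_of_forall_mem_zpowers hxq
  obtain ⟨s, hs⟩ := (hL.to_quotient N).exists_card_eq
  rw [hs] at hQcard
  obtain ⟨t, ht⟩ := IsPGroup.iff_orderOf.1 hL c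
  have hmst : m = s + t := by
    have h1 := Subgroup.card_eq_card_quotient_mul_card_subgroup N
    rw [hm, hs, ← hNeq, Nat.card_zpowers, ht, ← pow_add] at h1
    exact Nat.pow_right_injective hp.two_le h1
  have ht' := hsmall c t ht
  have hs2 : 2 ≤ s := by omega
  have hxs : x ^ p ^ s ∈ Subgroup.zpowers c := by
    rw [hNeq, ← QuotientGroup.eq_one_iff]
    show π (x ^ p ^ s) = 1
    rw [map_pow, ← hQcard, pow_orderOf_eq_one]
  obtain ⟨e, he⟩ : ∃ e : ℕ, c ^ e = x ^ p ^ s := mem_powers_iff_mem_zpowers.2 hxs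
  have hordx : orderOf x = p ^ s * orderOf (c ^ e) := by
    have h1 : p ^ s ∣ orderOf x := by rw [← hQcard]; exact orderOf_map_dvd π x
    rw [he, orderOf_pow_of_dvd (pow_ne_zero _ hp.ne_zero) h1, Nat.mul_div_cancel' h1]
  obtain ⟨k, hkt, hk⟩ := (Nat.dvd_prime_pow hp).mp (Nat.gcd_dvd_left (p ^ t) e)
  have hk2 : 2 ≤ k := by
    by_contra h
    have := hsmall x (s + (t - k)) (by
      rw [hordx, orderOf_pow, ht, hk, Nat.pow_div hkt hp.pos, ← pow_add])
    omega
  have ht2 : 2 ≤ t := by omega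
  obtain ⟨f, hf⟩ : p ^ 2 ∣ e :=
    (Nat.pow_dvd_pow_iff_le_right hp.one_lt).mpr hk2 |>.trans (hk ▸ Nat.gcd_dvd_right (p ^ t) e)
  subst hf
  have hN : ∀ y : L, y * c * y⁻¹ ∈ Subgroup.zpowers c := fun y => by
    rw [hNeq]
    exact hNn.conj_mem c (hNeq ▸ Subgroup.mem_zpowers c) y
  have hD : commutator L ≤ Subgroup.zpowers c := by
    rw [hNeq, commutator_def, Subgroup.commutator_le]
    intro a _ b _
    rw [← QuotientGroup.eq_one_iff]
    show π ⁅a, b⁆ = 1
    rw [map_commutatorElement, commutatorElement_eq_one_iff_commute]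
    obtain ⟨i, hi⟩ := Subgroup.mem_zpowers_iff.mp (hxq (π a))
    obtain ⟨j, hj⟩ := Subgroup.mem_zpowers_iff.mp (hxq (π b))
    rw [← hi, ← hj]
    exact (Commute.refl _).zpow_zpow i j
  set x₂ := x ^ p ^ (s - 2) with hx₂
  set x₁ := x ^ p ^ (s - 1) with hx₁
  have hx21 : x₂ ^ p = x₁ := by rw [hx₂, hx₁, ← pow_mul, ← pow_succ, show s - 2 + 1 = s - 1 by omega]
  have hx1p : x₁ ^ p = c ^ (p ^ 2 * f) := by
    rw [he, hx₁, ← pow_mul, ← pow_succ, show s - 1 + 1 = s by omega]
  -- `x₁` fixes the `p`-th powers in the cyclic normal subgroup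
  obtain ⟨r, hr1, hr⟩ := exists_exponent hL (hN x₁)
  have hrp : ((p : ℤ) ^ (t - 1 + 1)) ∣ r ^ p - 1 := by
    have hi : ∀ i : ℕ, x₁ ^ i * c * (x₁ ^ i)⁻¹ = c ^ (r ^ i) := by
      intro i
      induction i with
      | zero => simp
      | succ i ih =>
        rw [show x₁ ^ (i + 1) * c * (x₁ ^ (i + 1))⁻¹ = x₁ * (x₁ ^ i * c * (x₁ ^ i)⁻¹) * x₁⁻¹ by
          rw [pow_succ']; group, ih, ← conj_zpow, hr, ← zpow_mul, pow_succ']
    have h1 := hi p
    rw [hx1p, ((Commute.refl c).pow_left _).eq, mul_inv_cancel_right] at h1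
    rw [show t - 1 + 1 = t by omega, ← Nat.cast_pow, ← ht, orderOf_dvd_iff_zpow_eq_one, zpow_sub_one, ← h1,
      mul_inv_cancel]
  have hr2 := CfsgLib.UniqueSubgroup.pow_sub_one_dvd (hp.odd_of_ne_two hp2) hr1 hrp
  obtain ⟨q, hq⟩ := hr2
  set ζ := c ^ p ^ (t - 1) with hζ
  have hζord : orderOf ζ = p := by
    rw [hζ, orderOf_pow' c (pow_ne_zero _ hp.ne_zero), ht, Nat.gcd_eq_right (pow_dvd_pow p (Nat.sub_le _ _)),
      Nat.pow_div (Nat.sub_le _ _) hp.pos, show t - (t - 1) = 1 by omega, pow_one]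
  have hζp : ζ ^ p = 1 := hζord ▸ pow_orderOf_eq_one ζ
  have hζc : ∀ y : L, Commute y ζ := by
    intro y
    obtain ⟨r', ⟨q', hq'⟩, hr'⟩ := exists_exponent hL (pow_normalised hN (p ^ (t - 1)) y)
    show y * ζ = ζ * y
    rw [← mul_inv_eq_iff_eq_mul, hr', show r' = (p : ℤ) * q' + 1 by linarith, zpow_add, zpow_one, zpow_mul,
      zpow_natCast, hζp, one_zpow, one_mul]
  have hx1c : x₁ * c * x₁⁻¹ = c * ζ ^ q := by
    rw [hr, show r = (p : ℤ) ^ (t - 1) * q + 1 by linarith, zpow_add, zpow_one, zpow_mul, ← Nat.cast_pow,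
      zpow_natCast]
    exact ((hζc c).zpow_right q).eq.symm
  have hx1cp : Commute x₁ (c ^ p) := by
    show x₁ * c ^ p = c ^ p * x₁
    rw [← mul_inv_eq_iff_eq_mul, ← conj_pow, hx1c, ((hζc c).zpow_right q).mul_pow, ← zpow_natCast (ζ ^ q),
      ← zpow_mul, mul_comm, zpow_mul, zpow_natCast, hζp, one_zpow, mul_one]
  obtain ⟨u, hu⟩ := exists_pow_mul hp2 hL hD x₂ (c ^ f)⁻¹
  rw [hx21] at hu
  set η := x₁ * ((c ^ f)⁻¹) ^ p with hη
  have hx1f : Commute x₁ (((c ^ f)⁻¹) ^ p) := by
    rw [inv_pow, ← pow_mul, mul_comm, pow_mul]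
    exact (hx1cp.pow_right f).inv_right
  have hηp : η ^ p = 1 := by
    rw [hη, hx1f.mul_pow, hx1p, inv_pow, inv_pow, ← pow_mul, ← pow_mul,
      show f * (p * p) = p ^ 2 * f by ring, mul_inv_cancel]
  have hπc : π c = 1 := (QuotientGroup.eq_one_iff c).mpr (hNeq ▸ Subgroup.mem_zpowers c)
  have hπη : π η = π x ^ p ^ (s - 1) := by
    simp only [hη, hx₁, map_mul, map_pow, map_inv, hπc, one_pow, inv_one, mul_one]
  have hηN : η ∉ Subgroup.zpowers c := by
    intro h
    have h1 : π η = 1 := (QuotientGroup.eq_one_iff η).mpr (hNeq ▸ h)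
    rw [hπη, ← orderOf_dvd_iff_pow_eq_one, hQcard] at h1
    have := (Nat.pow_dvd_pow_iff_le_right hp.one_lt).mp h1
    omega
  set c₂ := c ^ p ^ (t - 2) with hc₂
  have hc2p : c₂ ^ p = ζ := by rw [hc₂, hζ, ← pow_mul, ← pow_succ, show t - 2 + 1 = t - 1 by omega]
  have hx1c2 : Commute c₂ x₁ := by
    obtain ⟨r', ⟨q', hq'⟩, hr'⟩ := exists_exponent hL (pow_normalised hN (p ^ (t - 2)) x₂)
    have h1 : x₂ * c₂ * x₂⁻¹ = c₂ * ζ ^ q' := by
      rw [← hc2p, hc₂, hr', show r' = (p : ℤ) * q' + 1 by linarith, zpow_add, zpow_one, zpow_mul, zpow_natCast]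
      exact (((Commute.refl _).pow_left p).zpow_left q').eq
    have h2 := conj_orbit (g := x₂) (u := c₂) (d := ζ ^ q') (a := 1) h1
      (by rw [mul_one]; exact ((hζc x₂).zpow_right q').eq ▸ mul_inv_cancel_right _ x₂) (by group)
      (Commute.one_right _) p
    rw [hx21, one_pow, mul_one, ← zpow_natCast (ζ ^ q'), ← zpow_mul, mul_comm, zpow_mul, zpow_natCast, hζp,
      one_zpow, mul_one, mul_inv_eq_iff_eq_mul] at h2
    exact h2.symm
  have hc2η : Commute c₂ η :=
    hx1c2.mul_right (((Commute.refl c).pow_pow (p ^ (t - 2)) f).inv_right.pow_right p)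
  -- the elements of order `p`
  have hηc : η * c * η⁻¹ = c * ζ ^ q := by
    rw [hη, show x₁ * ((c ^ f)⁻¹) ^ p * c * (x₁ * ((c ^ f)⁻¹) ^ p)⁻¹ =
      x₁ * (((c ^ f)⁻¹) ^ p * c * (((c ^ f)⁻¹) ^ p)⁻¹) * x₁⁻¹ by group,
      ((((Commute.refl c).pow_left f).inv_left).pow_left p).eq, mul_inv_cancel_right, hx1c]
  have hroot : ∀ y : L, y ^ p = 1 → ∃ i j : ℕ, y = η ^ i * ζ ^ j := by
    intro y hy
    obtain ⟨i', hi'⟩ : ∃ i' : ℕ, π x ^ i' = π y := mem_powers_iff_mem_zpowers.2 (hxq (π y))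
    have h1 : p ^ s ∣ i' * p := by
      rw [← hQcard, orderOf_dvd_iff_pow_eq_one, pow_mul, hi', ← map_pow, hy, map_one]
    obtain ⟨i, rfl⟩ : p ^ (s - 1) ∣ i' := by
      rw [show p ^ s = p ^ (s - 1) * p by rw [← pow_succ]; congr 1; omega] at h1
      exact Nat.dvd_of_mul_dvd_mul_right hp.pos h1
    have h2 : (η ^ i)⁻¹ * y ∈ Subgroup.zpowers c := by
      rw [hNeq, ← QuotientGroup.eq_one_iff]
      show π ((η ^ i)⁻¹ * y) = 1
      rw [map_mul, map_inv, map_pow, hπη, ← pow_mul, hi', inv_mul_cancel]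
    obtain ⟨g, hg⟩ : ∃ g : ℕ, c ^ g = (η ^ i)⁻¹ * y := mem_powers_iff_mem_zpowers.2 h2
    have h3 := conj_orbit (g := η) (u := c) (d := ζ ^ q) (a := 1) hηc
      (by rw [mul_one]; exact ((hζc η).zpow_right q).eq ▸ mul_inv_cancel_right _ η) (by group)
      (Commute.one_right _) i
    rw [one_pow, mul_one] at h3
    have h4 : ⁅c ^ g, η ^ i⁆ = (((ζ ^ q) ^ i) ^ g)⁻¹ := by
      rw [← commutatorElement_inv, inv_inj, commutatorElement_def, ← conj_pow, h3,
        ((((hζc c).zpow_right q).pow_right i)).mul_pow,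
        (((((hζc c).zpow_right q).pow_right i).pow_right g).pow_left g).eq, mul_inv_cancel_right]
    have hcen : ∀ w : L, Commute ⁅c ^ g, η ^ i⁆ w := fun w =>
      h4 ▸ (((((hζc w).zpow_right q).pow_right i).pow_right g).inv_right).symm
    have h5 := mul_pow_two hp2 (u := η ^ i) (v := c ^ g) (hcen _) (hcen _) (by
      have hzq : (ζ ^ q) ^ p = 1 := by
        rw [← zpow_natCast (ζ ^ q) p, ← zpow_mul, mul_comm q, zpow_mul, zpow_natCast, hζp, one_zpow]
      rw [h4, inv_pow, ← pow_mul, ← pow_mul, show i * (g * p) = p * (i * g) by ring, pow_mul, hzq, one_pow,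
        inv_one])
    rw [hg, mul_inv_cancel_left, hy, ← pow_mul, mul_comm i p, pow_mul, hηp, one_pow, one_mul, ← hg, ← pow_mul] at h5
    have h6 : p ^ (t - 1) ∣ g := by
      have h7 : p ^ t ∣ g * p := by rw [← ht, orderOf_dvd_iff_pow_eq_one]; exact h5.symm
      rw [show p ^ t = p ^ (t - 1) * p by rw [← pow_succ]; congr 1; omega] at h7
      exact Nat.dvd_of_mul_dvd_mul_right hp.pos h7
    obtain ⟨j, rfl⟩ := h6
    exact ⟨i, j, by rw [hζ, ← pow_mul, hg, mul_inv_cancel_left]⟩
  haveI : (Subgroup.zpowers ζ).Normal := ⟨fun n hn g => by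
    obtain ⟨k, rfl⟩ := Subgroup.mem_zpowers_iff.mp hn
    rw [((hζc g).zpow_right k).eq, mul_inv_cancel_right]
    exact Subgroup.zpow_mem_zpowers ζ k⟩
  set A := Subgroup.zpowers η ⊔ Subgroup.zpowers ζ with hA
  have hAmem : ∀ y : L, y ∈ A ↔ y ^ p = 1 := by
    intro y
    refine ⟨fun hy => ?_, fun hy => ?_⟩
    · obtain ⟨a, ha, b, hb, rfl⟩ := Subgroup.mem_sup_of_normal_right.mp hy
      obtain ⟨i, rfl⟩ := Subgroup.mem_zpowers_iff.mp ha
      obtain ⟨j, rfl⟩ := Subgroup.mem_zpowers_iff.mp hb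
      rw [((hζc η).zpow_zpow i j).mul_pow, ← zpow_natCast, ← zpow_mul, mul_comm, zpow_mul, zpow_natCast, hηp,
        one_zpow, one_mul, ← zpow_natCast, ← zpow_mul, mul_comm, zpow_mul, zpow_natCast, hζp, one_zpow]
    · obtain ⟨i, j, rfl⟩ := hroot y hy
      exact mul_mem (Subgroup.mem_sup_left (pow_mem (Subgroup.mem_zpowers η) i))
        (Subgroup.mem_sup_right (pow_mem (Subgroup.mem_zpowers ζ) j))
  have hAcard : Nat.card A = p ^ 2 := by
    rw [Cfsg.Agent.S4143.card_map_mk (Subgroup.zpowers ζ) A le_sup_right, Subgroup.map_sup,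
      (Subgroup.map_eq_bot_iff _).mpr (QuotientGroup.ker_mk' _).ge, sup_bot_eq, MonoidHom.map_zpowers,
      Nat.card_zpowers, Nat.card_zpowers, hζord, sq]
    congr 1
    refine orderOf_eq_prime (by rw [← map_pow, hηp, map_one]) fun h => hηN ?_
    exact (Subgroup.zpowers_le.mpr (Subgroup.pow_mem _ (Subgroup.mem_zpowers c) _))
      ((QuotientGroup.eq_one_iff η).mp h)
  refine ⟨A, c, c₂, η, u, hAmem, fun y hy => ?_, hAcard, hD, Subgroup.pow_mem _ (Subgroup.mem_zpowers c) _,
    pow_normalised hN _, ?_, hu, hηp, hηN, hc2η, ?_⟩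
  · rw [hc2p]
    exact hroot y ((hAmem y).mp hy)
  · rw [hc₂, orderOf_pow' c (pow_ne_zero _ hp.ne_zero), ht, Nat.gcd_eq_right (pow_dvd_pow p (Nat.sub_le _ _)),
      Nat.pow_div (Nat.sub_le _ _) hp.pos, show t - (t - 2) = 2 by omega]
  · rw [hm]
    exact Nat.pow_le_pow_right hp.pos (by omega)

namespace MetaData

variable {A : Subgroup L} {c c₂ η u : L} (D : MetaData p A c c₂ η u)
include D

theorem zeta_pow : (c₂ ^ p) ^ p = 1 := by
  rw [← pow_mul, ← sq, ← D.c2_order, pow_orderOf_eq_one]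

theorem zeta_ne : c₂ ^ p ≠ 1 := by
  intro h
  have hp := (Fact.out : p.Prime)
  have h1 := orderOf_dvd_of_pow_eq_one h
  rw [D.c2_order] at h1
  have h2 := Nat.le_of_dvd hp.pos h1
  have := hp.two_le
  nlinarith

theorem zeta_central (hL : IsPGroup p L) (y : L) : Commute y (c₂ ^ p) := by
  obtain ⟨r, ⟨q, hq⟩, hr⟩ := exists_exponent hL (D.c2_normal y)
  show y * c₂ ^ p = c₂ ^ p * y
  rw [← mul_inv_eq_iff_eq_mul, ← conj_pow, hr, show r = (p : ℤ) * q + 1 by linarith, ← zpow_natCast (c₂ ^ _),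
    ← zpow_mul, show ((p : ℤ) * q + 1) * p = (p : ℤ) + ((p : ℤ) * p) * q by ring, zpow_add, zpow_natCast, zpow_mul,
    show ((p : ℤ) * p) = ((p * p : ℕ) : ℤ) by push_cast; ring, zpow_natCast, pow_mul, D.zeta_pow, one_zpow,
    mul_one]

theorem root_commute (hL : IsPGroup p L) : ∀ a ∈ A, Commute u a := by
  intro a ha
  obtain ⟨i, j, rfl⟩ := D.spans a ha
  exact ((D.root ▸ (Commute.refl u).pow_right p).pow_right i).mul_right ((D.zeta_central hL u).pow_right j)

/-- If some element moves `η`, the subgroup generated by `c₂` is characteristic. -/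
theorem c2_invariant (hL : IsPGroup p L) {y : L} (hy : ¬ Commute y η) (f : L ≃* L) :
    f c₂ ∈ Subgroup.zpowers c₂ := by
  have hp := (Fact.out : p.Prime)
  set d := ⁅y, u⁆ with hd
  have hdc : d ∈ Subgroup.zpowers c :=
    D.derived (Subgroup.commutator_mem_commutator (Subgroup.mem_top _) (Subgroup.mem_top _))
  have hzc : c₂ ^ p ∈ Subgroup.zpowers c := pow_mem D.c2_mem p
  have hdp : d ^ p ≠ 1 := by
    intro h
    apply hy
    have hz : orderOf (c₂ ^ p) = p := orderOf_eq_prime D.zeta_pow D.zeta_ne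
    obtain ⟨k, hk⟩ := Subgroup.mem_zpowers_iff.mp
      (mem_zpowers_of_dvd hdc hzc (by rw [hz]; exact orderOf_dvd_of_pow_eq_one h))
    have hdu : Commute d u := hk ▸ ((D.zeta_central hL u).zpow_right k).symm
    show y * η = η * y
    rw [← mul_inv_eq_iff_eq_mul, ← D.root, ← conj_pow, show y * u * y⁻¹ = d * u by rw [hd, commutatorElement_def]; group,
      hdu.mul_pow, h, one_mul]
  obtain ⟨k, hk⟩ : ∃ k : ℕ, d ^ k = c₂ := by
    refine mem_powers_iff_mem_zpowers.2 (mem_zpowers_of_dvd D.c2_mem hdc ?_)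
    rw [D.c2_order]
    obtain ⟨j, hj⟩ := IsPGroup.iff_orderOf.1 hL d
    rw [hj]
    refine pow_dvd_pow p ?_
    by_contra hlt
    exact hdp (orderOf_dvd_iff_pow_eq_one.mp (by
      rw [hj]; calc p ^ j ∣ p ^ 1 := pow_dvd_pow p (by omega)
        _ = p := pow_one p))
  have hfc : f c₂ ∈ Subgroup.zpowers c := by
    rw [← hk, map_pow, hd, map_commutatorElement]
    exact pow_mem (D.derived (Subgroup.commutator_mem_commutator (Subgroup.mem_top _) (Subgroup.mem_top _))) k
  exact mem_zpowers_of_dvd hfc D.c2_mem (by rw [MulEquiv.orderOf_eq])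

end MetaData

section Semidirect

variable (a : MulAut L)

/-- The semidirect product with the group generated by `a`. -/
abbrev SD (a : MulAut L) := L ⋊[(Subgroup.zpowers a).subtype] (Subgroup.zpowers a)

/-- The generator of the complement. -/
def gen : (SD a) := SemidirectProduct.inr ⟨a, Subgroup.mem_zpowers a⟩

theorem gen_conj (l : L) : gen a * SemidirectProduct.inl l * (gen a)⁻¹ = (SemidirectProduct.inl (a l) : (SD a)) := by
  rw [gen, ← map_inv]
  exact (SemidirectProduct.inl_aut (φ := (Subgroup.zpowers a).subtype) ⟨a, Subgroup.mem_zpowers a⟩ l).symm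

theorem inr_mem_zpowers (b : Subgroup.zpowers a) :
    (SemidirectProduct.inr b : (SD a)) ∈ Subgroup.zpowers (gen a) := by
  obtain ⟨k, hk⟩ := Subgroup.mem_zpowers_iff.mp b.2
  refine Subgroup.mem_zpowers_iff.mpr ⟨k, ?_⟩
  rw [gen, ← map_zpow]
  congr 1
  exact Subtype.ext hk

theorem map_inl_normal {B : Subgroup L} [B.Normal] (hB : ∀ l ∈ B, a l ∈ B) :
    (B.map (SemidirectProduct.inl : L →* (SD a))).Normal := by
  haveI : Finite (SD a) := Finite.of_equiv _ SemidirectProduct.equivProd.symm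
  set g := gen a
  have hg : ∀ x ∈ B.map (SemidirectProduct.inl : L →* (SD a)), g * x * g⁻¹ ∈ B.map (SemidirectProduct.inl : L →* (SD a)) := by
    rintro _ ⟨l, hl, rfl⟩
    exact ⟨a l, hB l hl, (gen_conj a l).symm⟩
  refine ⟨fun x hx r => ?_⟩
  rw [← SemidirectProduct.inl_left_mul_inr_right r]
  obtain ⟨k, hk⟩ : ∃ k : ℕ, g ^ k = SemidirectProduct.inr r.right :=
    mem_powers_iff_mem_zpowers.2 (inr_mem_zpowers a r.right)
  rw [← hk]
  have hpow : ∀ (i : ℕ) (y : SD a), y ∈ B.map (SemidirectProduct.inl : L →* (SD a)) →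
      g ^ i * y * (g ^ i)⁻¹ ∈ B.map (SemidirectProduct.inl : L →* (SD a)) := by
    intro i
    induction i with
    | zero => intro y hy; simpa using hy
    | succ i ih =>
      intro y hy
      rw [show g ^ (i + 1) * y * (g ^ (i + 1))⁻¹ = g ^ i * (g * y * g⁻¹) * (g ^ i)⁻¹ by rw [pow_succ]; group]
      exact ih _ (hg _ hy)
  have h1 := hpow k x hx
  obtain ⟨l, hl, e⟩ := h1
  rw [show SemidirectProduct.inl r.left * g ^ k * x * (SemidirectProduct.inl r.left * g ^ k)⁻¹ =
    SemidirectProduct.inl r.left * (g ^ k * x * (g ^ k)⁻¹) * (SemidirectProduct.inl r.left)⁻¹ by group, ← e]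
  exact ⟨r.left * l * r.left⁻¹, Subgroup.Normal.conj_mem inferInstance l hl _, by simp⟩

variable (p) in
/-- The automorphism theorem. -/
theorem moves_iff (hp2 : p ≠ 2) (hL : IsPGroup p L) (hmc : Cfsg.IsMetacyclic L)
    (hnc : ∀ C : Subgroup L, IsCyclic C → C.index ≠ p) (ha : orderOf a = p) (m : ℕ) (hm : Nat.card L = p ^ m) :
    (∃ x : L, orderOf x = p ∧ a x ≠ x) ↔ (p = 3 ∧ Group.nilpotencyClass (SD a) = m) := by
  have hp := (Fact.out : p.Prime)
  haveI : Finite (SD a) := Finite.of_equiv _ SemidirectProduct.equivProd.symm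
  rcases exists_metaData hp2 hL hmc hnc with h1 | ⟨A, c, c₂, η, u, D⟩
  · exfalso
    haveI := (Nat.card_eq_one_iff_unique.mp h1).1
    have : a = 1 := MulEquiv.ext fun x => Subsingleton.elim _ _
    rw [this, orderOf_one] at ha
    exact hp.ne_one ha.symm
  have hRcard : Nat.card (SD a) = p ^ (m + 1) := by
    rw [SemidirectProduct.card, hm, Nat.card_zpowers, ha, pow_succ]
  have hR : IsPGroup p (SD a) := IsPGroup.of_card hRcard
  have hm4 : 4 ≤ m := (Nat.pow_le_pow_iff_right hp.one_lt).mp (hm ▸ D.large)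
  set ι : L →* (SD a) := SemidirectProduct.inl with hι
  have hιinj : Function.Injective ι := SemidirectProduct.inl_injective
  set g := gen a with hgdef
  have hgc : ∀ l : L, g * ι l * g⁻¹ = ι (a l) := gen_conj a
  have hgp : g ^ p = 1 := by
    rw [hgdef, gen, ← map_pow, show (⟨a, Subgroup.mem_zpowers a⟩ : Subgroup.zpowers a) ^ p = 1 from
      Subtype.ext (by rw [Subgroup.coe_pow, ← ha, pow_orderOf_eq_one]; rfl), map_one]
  have hAa : ∀ l ∈ A, a l ∈ A := fun l hl => by
    rw [D.omega] at hl ⊢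
    rw [← map_pow, hl, map_one]
  haveI hAn : A.Normal := ⟨fun l hl y => by
    rw [D.omega] at hl ⊢
    rw [conj_pow, hl, mul_one, mul_inv_cancel]⟩
  haveI hA'n : (A.map ι).Normal := map_inl_normal a hAa
  have hA'card : Nat.card (A.map ι) = p ^ 2 := by rw [Subgroup.card_map_of_injective hιinj, D.card]
  set ζ := c₂ ^ p with hζ
  have hζA : ζ ∈ A := (D.omega _).mpr D.zeta_pow
  have hηA : η ∈ A := (D.omega _).mpr D.eta_pow
  have hηζ : η ∉ Subgroup.zpowers ζ := fun h => D.eta_not ((Subgroup.zpowers_le.mpr (pow_mem D.c2_mem p)) h)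
  have hfix : (¬ ∃ x : L, orderOf x = p ∧ a x ≠ x) → ∀ l ∈ A, a l = l := by
    intro h l hl
    by_contra hne
    have h1 : l ≠ 1 := fun h1 => hne (by rw [h1, map_one])
    exact h ⟨l, orderOf_eq_prime ((D.omega l).mp hl) h1, hne⟩
  -- the case of a moving automorphism
  refine ⟨fun ⟨x₀, hx₀, hx₀a⟩ => ?_, fun ⟨hp3, hcl⟩ => ?_⟩
  · have hx₀A : x₀ ∈ A := (D.omega _).mpr (hx₀ ▸ pow_orderOf_eq_one x₀)
    have hAc : A ≤ Subgroup.center L := by
      by_contra hAc
      obtain ⟨y, hy⟩ : ∃ y, ¬ Commute y η := by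
        by_contra h
        push Not at h
        refine hAc fun l hl => Subgroup.mem_center_iff.mpr fun y => ?_
        obtain ⟨i, j, rfl⟩ := D.spans l hl
        exact (((h y).pow_right i).mul_right ((D.zeta_central hL y).pow_right j)).eq
      obtain ⟨r, ⟨q, hq⟩, hr⟩ := exists_exponent hR (c := ι c₂) (x := g) (by
        rw [hgc, ← MonoidHom.map_zpowers]
        exact ⟨_, D.c2_invariant hL hy a, rfl⟩)
      rw [hgc, ← map_zpow] at hr
      have hac2 : a c₂ = c₂ * ζ ^ q := by
        rw [hιinj hr, show r = (p : ℤ) * q + 1 by linarith, zpow_add, zpow_one, zpow_mul, zpow_natCast, ← hζ]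
        exact ((D.zeta_central hL c₂).zpow_right q).eq.symm
      have haζ : a ζ = ζ := by
        rw [hζ, map_pow, hac2, ((D.zeta_central hL c₂).zpow_right q).mul_pow, ← zpow_natCast (ζ ^ q), ← zpow_mul,
          mul_comm q, zpow_mul, zpow_natCast, D.zeta_pow, one_zpow, mul_one]
      -- displacement on `A` lies on the line
      have hstep : ∀ l ∈ A, l⁻¹ * a l ∈ Subgroup.zpowers ζ := by
        intro l hl
        haveI : (Subgroup.zpowers (ι ζ)).Normal := by
          refine ⟨fun n hn r => ?_⟩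
          obtain ⟨k, rfl⟩ := Subgroup.mem_zpowers_iff.mp hn
          have hc : Commute r (ι ζ) := by
            rw [← SemidirectProduct.inl_left_mul_inr_right r]
            refine Commute.mul_left ((D.zeta_central hL r.left).map ι) ?_
            obtain ⟨i, hi⟩ := Subgroup.mem_zpowers_iff.mp (inr_mem_zpowers a r.right)
            rw [← hi]
            refine Commute.zpow_left ?_ i
            show g * ι ζ = ι ζ * g
            rw [← mul_inv_eq_iff_eq_mul, hgc, haζ]
          rw [(hc.zpow_right k).eq, mul_inv_cancel_right]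
          exact Subgroup.zpow_mem_zpowers _ k
        have h1 := CfsgLib.PGroupRankTwo.step_central hR (B := Subgroup.zpowers (ι ζ)) (A := A.map ι)
          (Subgroup.zpowers_le.mpr ⟨ζ, hζA, rfl⟩) (by
            rw [hA'card, Nat.card_zpowers, orderOf_injective ι hιinj, orderOf_eq_prime D.zeta_pow D.zeta_ne, sq])
          g (Subgroup.mem_map_of_mem ι hl)
        rw [hgc, ← map_inv, ← map_mul, ← MonoidHom.map_zpowers] at h1
        exact (Subgroup.mem_map_iff_mem hιinj).mp h1
      have haη : a η ≠ η := by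
        intro h
        apply hx₀a
        obtain ⟨i, j, rfl⟩ := D.spans x₀ hx₀A
        rw [map_mul, map_pow, map_pow, h, ← hζ, haζ]
      -- the centraliser inside `L`
      set C := Subgroup.centralizer (A : Set L) with hC
      have huC : u ∈ C := Subgroup.mem_centralizer_iff.mpr fun w hw => (D.root_commute hL w hw).symm
      have hauC : a u ∈ C := Subgroup.mem_centralizer_iff.mpr fun w hw => by
        have h1 : a.symm w ∈ A := by
          rw [SetLike.mem_coe, D.omega] at hw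
          rw [D.omega]
          rw [← map_pow, hw, map_one]
        have h2 := ((D.root_commute hL _ h1).map (a : L →* L)).symm.eq
        simpa using h2
      have hc2C : c₂ ∈ C := Subgroup.mem_centralizer_iff.mpr fun w hw => by
        obtain ⟨i, j, rfl⟩ := D.spans w hw
        exact ((D.comm.pow_right i).mul_right (((Commute.refl c₂).pow_right p).pow_right j)).symm.eq
      have hcen : ∀ w : C, w ^ p = 1 → w ∈ Subgroup.center C := fun w hw =>
        Subgroup.mem_center_iff.mpr fun v => Subtype.ext (Subgroup.mem_centralizer_iff.mp v.2 w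
          ((D.omega _).mpr (by simpa using congrArg Subtype.val hw))).symm
      have hmul : ∀ v w : L, v ∈ C → w ∈ C → (v ^ p) ^ p = 1 → (v * w) ^ p = v ^ p * w ^ p := fun v w hv hw h =>
        congrArg Subtype.val (pow_mul_of_omega hp2 (hL.to_subgroup C) hcen
          (x := (⟨v, hv⟩ : C)) (Subtype.ext (by simpa using h)) ⟨w, hw⟩)
      set d := u⁻¹ * a u with hd
      have hdC : d ∈ C := mul_mem (inv_mem huC) hauC
      have hdp : d ^ p = η⁻¹ * a η := by
        rw [hd, hmul _ _ (inv_mem huC) hauC (by rw [inv_pow, inv_pow, D.root, D.eta_pow, inv_one]), inv_pow,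
          D.root, ← map_pow, D.root]
      have hdne : d ^ p ≠ 1 := by
        rw [hdp, Ne, inv_mul_eq_one]
        exact fun h => haη h.symm
      obtain ⟨k, hk⟩ := Subgroup.mem_zpowers_iff.mp (hstep η hηA)
      rw [← hdp, hζ, ← zpow_natCast, ← zpow_mul, mul_comm, zpow_mul, zpow_natCast] at hk
      set α := (c₂ ^ k)⁻¹ * d with hα
      have hαA : α ∈ A := by
        rw [D.omega, hα, hmul _ _ (inv_mem (zpow_mem hc2C k)) hdC, inv_pow, hk, inv_mul_cancel]
        rw [inv_pow, inv_pow, hk, hdp]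
        rw [D.omega] at hηA
        have hsA : η⁻¹ * a η ∈ A := mul_mem (inv_mem ((D.omega η).mpr hηA)) (hAa η ((D.omega η).mpr hηA))
        rw [(D.omega _).mp hsA, inv_one]
      obtain ⟨l, hl⟩ := Subgroup.mem_zpowers_iff.mp (hstep α hαA)
      have hδ : d⁻¹ * a d = ζ ^ (q * k + l) := by
        rw [show d = c₂ ^ k * α by rw [hα]; group, map_mul, map_zpow, hac2,
          ((D.zeta_central hL c₂).zpow_right q).mul_zpow, show a α = α * ζ ^ l by rw [hl]; group, ← zpow_mul]
        calc (c₂ ^ k * α)⁻¹ * (c₂ ^ k * ζ ^ (q * k) * (α * ζ ^ l)) = α⁻¹ * (ζ ^ (q * k) * α) * ζ ^ l := by group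
          _ = ζ ^ (q * k) * ζ ^ l := by rw [← ((D.zeta_central hL α).zpow_right _).eq, inv_mul_cancel_left]
          _ = _ := (zpow_add ζ _ _).symm
      set δ := d⁻¹ * a d with hδdef
      have hc := conj_orbit (g := g) (u := ι u) (d := ι d) (a := ι δ) (by rw [hgc, ← map_mul, hd]; group)
        (by rw [hgc, ← map_mul, hδdef]; group)
        (by rw [hgc, hδ, map_zpow a, haζ])
        ((hδ ▸ (D.zeta_central hL d).zpow_right _).map ι) p
      obtain ⟨c', hc'⟩ := hp.dvd_choose_self two_ne_zero (by have := hp.two_le; omega : 2 < p)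
      have hδp : ι δ ^ p = 1 := by
        rw [← map_pow, hδ, ← zpow_natCast, ← zpow_mul, mul_comm, zpow_mul, zpow_natCast, D.zeta_pow, one_zpow,
          map_one]
      rw [hgp, one_mul, inv_one, mul_one, hc', pow_mul, hδp, one_pow, mul_one, ← map_pow, ← map_mul] at hc
      exact hdne (mul_eq_left.mp (hιinj hc).symm)
    -- now `A` is central in `L`
    have hom : ∀ z ∈ Subgroup.centralizer ((A.map ι : Subgroup (SD a)) : Set (SD a)), z ^ p = 1 → z ∈ A.map ι := by
      intro z hz hzp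
      by_cases hb : z.right = 1
      · have hzl : z = ι z.left := by
          conv_lhs => rw [← SemidirectProduct.inl_left_mul_inr_right z, hb, map_one, mul_one]
        rw [hzl] at hzp ⊢
        exact Subgroup.mem_map_of_mem ι ((D.omega _).mpr (hιinj (by rw [map_pow, hzp, map_one])))
      · exfalso
        apply hx₀a
        have hcard : Nat.card (Subgroup.zpowers a) = p := by rw [Nat.card_zpowers, ha]
        obtain ⟨k, hk⟩ := Subgroup.mem_zpowers_iff.mp
          ((zpowers_eq_top_of_prime_card hcard hb).symm ▸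
            Subgroup.mem_top (⟨a, Subgroup.mem_zpowers a⟩ : Subgroup.zpowers a))
        have h1 : Commute (SemidirectProduct.inr z.right : (SD a)) (ι x₀) := by
          have h2 := (Subgroup.mem_centralizer_iff.mp hz (ι x₀) ⟨x₀, hx₀A, rfl⟩).symm
          rw [show (SemidirectProduct.inr z.right : (SD a)) = (ι z.left)⁻¹ * z by
            rw [eq_inv_mul_iff_mul_eq]; exact SemidirectProduct.inl_left_mul_inr_right z]
          exact Commute.mul_left
            ((Commute.map (Subgroup.mem_center_iff.mp (hAc hx₀A) z.left) ι).inv_left) h2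
        have h3 : Commute g (ι x₀) := by
          rw [hgdef, gen, ← hk, map_zpow]
          exact h1.zpow_left k
        apply hιinj
        rw [← hgc, h3.eq, mul_inv_cancel_right]
    have hexp : ∀ z ∈ A.map ι, z ^ p = 1 := by
      rintro _ ⟨l, hl, rfl⟩
      rw [← map_pow, (D.omega l).mp hl, map_one]
    obtain ⟨ζ', η', F⟩ := exists_frame hp2 hR hA'n hexp hA'card hom (fun h => hx₀a (hιinj (by
      rw [← hgc, Subgroup.mem_center_iff.mp (h ⟨x₀, hx₀A, rfl⟩) g, mul_inv_cancel_right])))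
    set C := Subgroup.centralizer ((A.map ι : Subgroup (SD a)) : Set (SD a)) with hC
    have hgC : g ∉ C := fun h => hx₀a (hιinj (by
      rw [← hgc, ← Subgroup.mem_centralizer_iff.mp h (ι x₀) ⟨x₀, hx₀A, rfl⟩, mul_inv_cancel_right]))
    have hLC : ∀ l : L, ι l ∈ C := fun l => by
      refine Subgroup.mem_centralizer_iff.mpr ?_
      rintro _ ⟨w, hw, rfl⟩
      exact ((show Commute l w from Subgroup.mem_center_iff.mp (hAc hw) l).map ι).eq.symm
    obtain ⟨v, hvA, hvζ⟩ : ∃ v : L, ι v ^ p ∈ A.map ι ∧ ι v ^ p ∉ Subgroup.zpowers ζ' := by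
      by_cases h1 : ι η ∈ Subgroup.zpowers ζ'
      · refine ⟨c₂, by rw [← map_pow]; exact ⟨_, hζA, rfl⟩, fun h2 => ?_⟩
        rw [← map_pow, ← hζ] at h2
        have he : Subgroup.zpowers (ι ζ) = Subgroup.zpowers ζ' := by
          refine Subgroup.eq_of_le_of_card_ge (Subgroup.zpowers_le.mpr h2) ?_
          rw [Nat.card_zpowers, Nat.card_zpowers, F.zeta_order, orderOf_injective ι hιinj,
            orderOf_eq_prime D.zeta_pow D.zeta_ne]
        rw [← he, ← MonoidHom.map_zpowers] at h1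
        exact hηζ ((Subgroup.mem_map_iff_mem hιinj).mp h1)
      · exact ⟨u, by rw [← map_pow, D.root]; exact ⟨η, hηA, rfl⟩, by rwa [← map_pow, D.root]⟩
    have hδne : ((ι v)⁻¹ * (g * ι v * g⁻¹))⁻¹ * (g * ((ι v)⁻¹ * (g * ι v * g⁻¹)) * g⁻¹) ∉
        Subgroup.zpowers ζ' := by
      intro hδ
      set d := (ι v)⁻¹ * (g * ι v * g⁻¹) with hd
      set δ := d⁻¹ * (g * d * g⁻¹) with hδdef
      have hdp : d ^ p = (ι v ^ p)⁻¹ * (g * ι v ^ p * g⁻¹) := by
        rw [hd, F.omega_mul_pow (inv_mem (hLC v)) (F.C_normal.conj_mem _ (hLC v) g)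
          (by rw [inv_pow]; exact inv_mem hvA), inv_pow, conj_pow]
      have hc := conj_orbit (g := g) (u := ι v) (d := d) (a := δ) (by rw [hd]; group) (by rw [hδdef]; group)
        (by rw [Subgroup.mem_center_iff.mp (F.ze_center hδ) g, mul_inv_cancel_right])
        (Subgroup.mem_center_iff.mp (F.ze_center hδ) d) p
      obtain ⟨c', hc'⟩ := hp.dvd_choose_self two_ne_zero (by have := hp.two_le; omega : 2 < p)
      rw [hgp, one_mul, inv_one, mul_one, hc', pow_mul, F.exp δ (F.ze_mem hδ), one_pow, mul_one] at hc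
      have hd1 := mul_eq_left.mp hc.symm
      rw [hdp, inv_mul_eq_one, eq_mul_inv_iff_mul_eq] at hd1
      exact hvζ (F.fixed_mem hgC hvA hd1.symm)
    obtain ⟨hp3, -, hcl⟩ := F.uniserial_case hRcard hgC (hLC v) hvA hvζ hδne
    exact ⟨hp3, by simpa using hcl⟩
  · by_contra hno
    have hfA := hfix hno
    have hlcs := CfsgLib.MaximalClass.normal_eq_lcs (G := (SD a)) (n := m + 1) (by omega) hRcard
      (by rw [hcl]; omega)
    have hidx : ∀ (B : Subgroup (SD a)) (j : ℕ), Nat.card B = p ^ j → j ≤ m + 1 → B.index = p ^ (m + 1 - j) := by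
      intro B j hB hj
      refine Nat.eq_of_mul_eq_mul_left (pow_pos hp.pos j) ?_
      rw [← pow_add, show j + (m + 1 - j) = m + 1 by omega, ← hRcard, ← B.card_mul_index, hB]
    by_cases hAc : A ≤ Subgroup.center L
    · -- two normal subgroups of order `p`
      have hnorm : ∀ w ∈ A, (Subgroup.map ι (Subgroup.zpowers w)).Normal := fun w hw => by
        haveI : (Subgroup.zpowers w).Normal := ⟨fun n hn y => by
          rw [Subgroup.mem_center_iff.mp ((Subgroup.zpowers_le.mpr (hAc hw)) hn) y, mul_inv_cancel_right]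
          exact hn⟩
        refine map_inl_normal a fun l hl => ?_
        rw [hfA l ((Subgroup.zpowers_le.mpr hw) hl)]
        exact hl
      have hcardw : ∀ w : L, w ^ p = 1 → w ≠ 1 → Nat.card (Subgroup.map ι (Subgroup.zpowers w)) = p ^ 1 := by
        intro w h1 h2
        rw [Subgroup.card_map_of_injective hιinj, Nat.card_zpowers, orderOf_eq_prime h1 h2, pow_one]
      have hη1 : η ≠ 1 := fun h => D.eta_not (h ▸ one_mem _)
      haveI := hnorm η hηA
      haveI := hnorm ζ hζA
      have h1 := hlcs (Subgroup.map ι (Subgroup.zpowers η)) (r := m) (by omega)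
        (by rw [hidx _ 1 (hcardw η D.eta_pow hη1) (by omega)]; congr 1)
      have h2 := hlcs (Subgroup.map ι (Subgroup.zpowers ζ)) (r := m) (by omega)
        (by rw [hidx _ 1 (hcardw ζ D.zeta_pow D.zeta_ne) (by omega)]; congr 1)
      have h3 := Subgroup.mem_map_of_mem ι (Subgroup.mem_zpowers η)
      rw [h1, ← h2] at h3
      exact hηζ ((Subgroup.mem_map_iff_mem hιinj).mp h3)
    · -- two normal subgroups of order `p ^ 2`
      obtain ⟨y, hy⟩ : ∃ y, ¬ Commute y η := by
        by_contra h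
        push Not at h
        refine hAc fun l hl => Subgroup.mem_center_iff.mpr fun y => ?_
        obtain ⟨i, j, rfl⟩ := D.spans l hl
        exact (((h y).pow_right i).mul_right ((D.zeta_central hL y).pow_right j)).eq
      haveI : (Subgroup.zpowers c₂).Normal := ⟨fun n hn z => by
        obtain ⟨k, rfl⟩ := Subgroup.mem_zpowers_iff.mp hn
        rw [← conj_zpow]
        exact zpow_mem (D.c2_normal z) k⟩
      haveI : (Subgroup.map ι (Subgroup.zpowers c₂)).Normal := map_inl_normal a fun l hl => by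
        obtain ⟨k, rfl⟩ := Subgroup.mem_zpowers_iff.mp hl
        rw [map_zpow]
        exact zpow_mem (D.c2_invariant hL hy a) k
      have h1 := hlcs (A.map ι) (r := m - 1) (by omega)
        (by rw [hidx _ 2 hA'card (by omega)]; congr 1)
      have h2 := hlcs (Subgroup.map ι (Subgroup.zpowers c₂)) (r := m - 1) (by omega)
        (by
          rw [hidx _ 2 (by rw [Subgroup.card_map_of_injective hιinj, Nat.card_zpowers, D.c2_order]) (by omega)]
          congr 1)
      have h3 := Subgroup.mem_map_of_mem ι hηA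
      rw [h1, ← h2] at h3
      exact D.eta_not ((Subgroup.zpowers_le.mpr D.c2_mem) ((Subgroup.mem_map_iff_mem hιinj).mp h3))

end Semidirect

end CfsgLib.Blackburn
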