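import Cfsg.Agent.Lib.PGroup.RankTwoNormal
import Cfsg.Agent.Lib.MaximalClass
import Cfsg.Agent.Lib.PGroup.Blackburn.PCentral

/-!
A normal subgroup of order `p ^ 2` containing all elements of order `p` of its centraliser.
-/

set_option autoImplicit false
set_option linter.unusedSectionVars false

universe u

namespace CfsgLib.Blackburn

open scoped commutatorElement

variable {R : Type u} [Group R] [Finite R] {p : ℕ} [Fact p.Prime]

/-- The witness of the uniserial case. -/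
def Uniserial (p : ℕ) {R : Type u} [Group R] (A : Subgroup R) : Prop :=
  ∃ g x : R, g ∉ Subgroup.centralizer (A : Set R) ∧ x ∈ Subgroup.centralizer (A : Set R) ∧
    x ^ p ∈ A ∧ x⁻¹ * (g * x * g⁻¹) ∈ A ∧ x⁻¹ * (g * x * g⁻¹) ∉ Subgroup.center R

/-- The two families with an element of order `p` moving the normal subgroup. -/
def Types (p n : ℕ) {R : Type u} [Group R] (A : Subgroup R) : Prop :=
  (∃ x : R, x ∉ Subgroup.centralizer (A : Set R) ∧ x ^ p = 1) ∧
  ((3 ≤ n ∧ ∃ x y z : R, Subgroup.closure ({x, y, z} : Set R) = ⊤ ∧ x ^ p = 1 ∧ y ^ p = 1 ∧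
      z ^ p ^ (n - 2) = 1 ∧ x * z = z * x ∧ y * z = z * y ∧ x⁻¹ * y * x = y * z ^ p ^ (n - 3)) ∨
   (4 ≤ n ∧ ∃ (s : ℕ) (x y z : R), (s = 1 ∨ ¬ IsSquare (s : ZMod p)) ∧
      Subgroup.closure ({x, y, z} : Set R) = ⊤ ∧
      x ^ p = 1 ∧ y ^ p = 1 ∧ z ^ p ^ (n - 2) = 1 ∧ y * z = z * y ∧
      x⁻¹ * y * x = y * z ^ (s * p ^ (n - 3)) ∧ x⁻¹ * z * x = y * z))

/-- The hypotheses: `A` is normal elementary of order `p²`, contains the elements of order `p`
of its centraliser and is not central; `ζ` spans the fixed line, `η` is outside it. -/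
structure Frame (p : ℕ) {R : Type u} [Group R] (A : Subgroup R) (ζ η : R) : Prop where
  two : p ≠ 2
  pgroup : IsPGroup p R
  normal : A.Normal
  exp : ∀ a ∈ A, a ^ p = 1
  card : Nat.card A = p ^ 2
  omega : ∀ x ∈ Subgroup.centralizer (A : Set R), x ^ p = 1 → x ∈ A
  zeta_mem : ζ ∈ A
  zeta_center : ζ ∈ Subgroup.center R
  zeta_ne : ζ ≠ 1
  eta_mem : η ∈ A
  eta_not : η ∉ Subgroup.zpowers ζ
  moved : ¬ A ≤ Subgroup.center R
  spans : ∀ a ∈ A, ∃ i j : ℤ, a = η ^ i * ζ ^ j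
  step : ∀ g : R, η⁻¹ * (g * η * g⁻¹) ∈ Subgroup.zpowers ζ

theorem exists_frame (hp2 : p ≠ 2) (hR : IsPGroup p R) {A : Subgroup R} (hn : A.Normal)
    (hexp : ∀ a ∈ A, a ^ p = 1) (hcard : Nat.card A = p ^ 2)
    (hom : ∀ x ∈ Subgroup.centralizer (A : Set R), x ^ p = 1 → x ∈ A) (hmv : ¬ A ≤ Subgroup.center R) :
    ∃ ζ η : R, Frame p A ζ η := by
  have hp := (Fact.out : p.Prime)
  haveI := hn
  obtain ⟨Z, hZn, hZA, hZ⟩ := CfsgLib.PGroupRankTwo.exists_normal_card hR A 1
    (by rw [hcard]; exact Nat.pow_le_pow_right hp.pos (by omega))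
  haveI := hZn
  rw [pow_one] at hZ
  haveI : Nontrivial Z := Finite.one_lt_card_iff_nontrivial.mp (by rw [hZ]; exact hp.one_lt)
  obtain ⟨⟨ζ, hζZ⟩, hζ⟩ := exists_ne (1 : Z)
  have hζ1 : ζ ≠ 1 := fun h => hζ (Subtype.ext h)
  have hzp : Subgroup.zpowers ζ = Z := by
    refine Subgroup.eq_of_le_of_card_ge (Subgroup.zpowers_le.mpr hζZ) ?_
    rw [hZ, Nat.card_zpowers]
    exact (orderOf_eq_prime (hexp ζ (hZA hζZ)) hζ1).ge
  have hlt : Z < A := lt_of_le_of_ne hZA fun e => by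
    rw [e, hcard] at hZ
    have : p ^ 1 < p ^ 2 := Nat.pow_lt_pow_right hp.one_lt (by norm_num)
    rw [pow_one] at this
    omega
  obtain ⟨η, hηA, hηZ⟩ := SetLike.exists_of_lt hlt
  have hstep := CfsgLib.PGroupRankTwo.step_central hR hZA (by rw [hcard, hZ, sq])
  have hzc : ζ ∈ Subgroup.center R := Subgroup.mem_center_iff.mpr fun g => by
    have h := CfsgLib.PGroupRankTwo.step_central hR (bot_le : (⊥ : Subgroup R) ≤ Z)
      (by rw [hZ, Subgroup.card_bot, one_mul]) g hζZ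
    rw [Subgroup.mem_bot, inv_mul_eq_one, eq_mul_inv_iff_mul_eq] at h
    exact h.symm
  refine ⟨ζ, η, hp2, hR, hn, hexp, hcard, hom, hZA hζZ, hzc, hζ1, hηA, hzp.symm ▸ hηZ, hmv, fun a ha => ?_,
    fun g => hzp.symm ▸ hstep g hηA⟩
  have hsup : Z ⊔ Subgroup.zpowers η = A :=
    CfsgLib.PGroupRankTwo.sup_eq_of_step hZA (by rw [hcard, hZ, sq]) hηA hηZ
  rw [← hsup, ← hzp] at ha
  haveI : (Subgroup.zpowers ζ).Normal := hzp.symm ▸ hZn
  obtain ⟨y, hy, w, hw, rfl⟩ := Subgroup.mem_sup_of_normal_left.mp ha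
  obtain ⟨j, rfl⟩ := Subgroup.mem_zpowers_iff.mp hy
  obtain ⟨i, rfl⟩ := Subgroup.mem_zpowers_iff.mp hw
  exact ⟨i, j, ((Subgroup.mem_center_iff.mp (zpow_mem hzc j) _)).symm⟩

namespace Frame

variable {A : Subgroup R} {ζ η : R} (F : Frame p A ζ η)
include F

theorem zc (g : R) : Commute g ζ := Subgroup.mem_center_iff.mp F.zeta_center g

theorem ze_center {x : R} (hx : x ∈ Subgroup.zpowers ζ) : x ∈ Subgroup.center R :=
  (Subgroup.zpowers_le.mpr F.zeta_center) hx

theorem ze_mem {x : R} (hx : x ∈ Subgroup.zpowers ζ) : x ∈ A := (Subgroup.zpowers_le.mpr F.zeta_mem) hx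

theorem zeta_order : orderOf ζ = p := orderOf_eq_prime (F.exp ζ F.zeta_mem) F.zeta_ne

theorem eta_order : orderOf η = p :=
  orderOf_eq_prime (F.exp η F.eta_mem) fun h => F.eta_not (h ▸ one_mem _)

/-- The displacement of `η`. -/
def chi : R →* Subgroup.zpowers ζ :=
  MonoidHom.mk' (fun g => ⟨η⁻¹ * (g * η * g⁻¹), F.step g⟩) fun g h => Subtype.ext (by
    show η⁻¹ * (g * h * η * (g * h)⁻¹) = η⁻¹ * (g * η * g⁻¹) * (η⁻¹ * (h * η * h⁻¹))
    have hc := Subgroup.mem_center_iff.mp (F.ze_center (F.step h))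
    calc η⁻¹ * (g * h * η * (g * h)⁻¹) = η⁻¹ * g * (η * (η⁻¹ * (h * η * h⁻¹))) * g⁻¹ := by group
      _ = η⁻¹ * (g * η) * ((η⁻¹ * (h * η * h⁻¹)) * g⁻¹) := by group
      _ = η⁻¹ * (g * η) * (g⁻¹ * (η⁻¹ * (h * η * h⁻¹))) := by rw [← hc g⁻¹]
      _ = _ := by group)

theorem A_comm {a b : R} (ha : a ∈ A) (hb : b ∈ A) : Commute a b :=
  congrArg Subtype.val ((IsPGroup.commGroupOfCardEqPrimeSq F.card).mul_comm ⟨a, ha⟩ ⟨b, hb⟩)

theorem A_le : A ≤ Subgroup.centralizer (A : Set R) := fun _ ha =>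
  Subgroup.mem_centralizer_iff.mpr fun _ hb => F.A_comm hb ha

theorem mem_C_iff {g : R} : g ∈ Subgroup.centralizer (A : Set R) ↔ Commute g η := by
  refine ⟨fun h => (Subgroup.mem_centralizer_iff.mp h η F.eta_mem).symm, fun h => ?_⟩
  refine Subgroup.mem_centralizer_iff.mpr fun a ha => ?_
  obtain ⟨i, j, rfl⟩ := F.spans a ha
  exact ((h.zpow_right i).mul_right ((F.zc g).zpow_right j)).symm.eq

theorem chi_ker : F.chi.ker = Subgroup.centralizer (A : Set R) := by
  ext g
  rw [MonoidHom.mem_ker, F.mem_C_iff]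
  show (⟨η⁻¹ * (g * η * g⁻¹), _⟩ : Subgroup.zpowers ζ) = 1 ↔ _
  rw [Subtype.ext_iff, OneMemClass.coe_one, inv_mul_eq_one, eq_mul_inv_iff_mul_eq]
  exact ⟨fun h => h.symm, fun h => h.eq.symm⟩

theorem C_normal : (Subgroup.centralizer (A : Set R)).Normal := by
  rw [← F.chi_ker]; exact F.chi.normal_ker

theorem index_C : (Subgroup.centralizer (A : Set R)).index = p := by
  have hp := (Fact.out : p.Prime)
  rw [← F.chi_ker, Subgroup.index_ker]
  have h := Subgroup.card_subgroup_dvd_card F.chi.range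
  rw [Nat.card_zpowers, F.zeta_order] at h
  rcases (Nat.dvd_prime hp).mp h with h1 | h1
  · exfalso
    apply F.moved
    intro a ha
    refine Subgroup.mem_center_iff.mpr fun g => ?_
    have hg : g ∈ Subgroup.centralizer (A : Set R) := by
      rw [← F.chi_ker, MonoidHom.mem_ker]
      exact Subgroup.mem_bot.mp ((Subgroup.card_eq_one.mp h1) ▸ ⟨g, rfl⟩)
    exact (Subgroup.mem_centralizer_iff.mp hg a ha).symm
  · exact h1

theorem pow_p_mem (g : R) : g ^ p ∈ Subgroup.centralizer (A : Set R) := by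
  haveI := F.C_normal
  have := Subgroup.pow_index_mem (Subgroup.centralizer (A : Set R)) g
  rwa [F.index_C] at this

/-- Elements of `A` fixed by an element outside the centraliser lie on the line. -/
theorem fixed_mem {g a : R} (hg : g ∉ Subgroup.centralizer (A : Set R)) (ha : a ∈ A) (hga : Commute g a) :
    a ∈ Subgroup.zpowers ζ := by
  have hp := (Fact.out : p.Prime)
  obtain ⟨i, j, rfl⟩ := F.spans a ha
  have hi : Commute g (η ^ i) := by
    have := hga.mul_right ((F.zc g).zpow_right j).inv_right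
    rwa [mul_inv_cancel_right] at this
  by_cases hpi : (p : ℤ) ∣ i
  · obtain ⟨i', rfl⟩ := hpi
    rw [zpow_mul, zpow_natCast, F.exp η F.eta_mem, one_zpow, one_mul]
    exact Subgroup.zpow_mem_zpowers ζ j
  · exfalso
    obtain ⟨u, v, huv⟩ := (Nat.prime_iff_prime_int.mp hp).coprime_iff_not_dvd.mpr hpi
    refine hg (F.mem_C_iff.mpr ?_)
    have e : (η ^ i) ^ v = η := by
      calc (η ^ i) ^ v = (η ^ (p : ℤ)) ^ u * (η ^ i) ^ v := by
            rw [zpow_natCast, F.exp η F.eta_mem, one_zpow, one_mul]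
        _ = η ^ (u * (p : ℤ) + v * i) := by rw [← zpow_mul, ← zpow_mul, zpow_add, mul_comm u, mul_comm v]
        _ = η := by rw [huv, zpow_one]
    exact e ▸ hi.zpow_right v

theorem center_mem {a : R} (ha : a ∈ A) (hc : a ∈ Subgroup.center R) : a ∈ Subgroup.zpowers ζ := by
  obtain ⟨g, hg⟩ : ∃ g, g ∉ Subgroup.centralizer (A : Set R) := by
    by_contra h
    push Not at h
    exact F.moved fun a ha => Subgroup.mem_center_iff.mpr fun g =>
      (Subgroup.mem_centralizer_iff.mp (h g) a ha).symm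
  exact F.fixed_mem hg ha (Subgroup.mem_center_iff.mp hc g)

theorem cen_C {x : Subgroup.centralizer (A : Set R)} (hx : x ^ p = 1) :
    x ∈ Subgroup.center (Subgroup.centralizer (A : Set R)) := by
  have hxA : (x : R) ∈ A := F.omega x x.2 (by rw [← Subgroup.coe_pow, hx, Subgroup.coe_one])
  exact Subgroup.mem_center_iff.mpr fun y =>
    Subtype.ext (Subgroup.mem_centralizer_iff.mp y.2 x hxA).symm

/-- The next layer. -/
theorem comm_mem {x y : R} (hx : x ∈ Subgroup.centralizer (A : Set R)) (hy : y ∈ Subgroup.centralizer (A : Set R))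
    (hxA : x ^ p ∈ A) : ⁅y, x⁆ ∈ A := by
  have h := comm_pow_eq_one F.two (F.pgroup.to_subgroup _) (fun _ => F.cen_C)
    (x := (⟨x, hx⟩ : Subgroup.centralizer (A : Set R))) (Subtype.ext (by simpa using F.exp _ hxA)) ⟨y, hy⟩
  refine F.omega _ (mul_mem (mul_mem (mul_mem hy hx) (inv_mem hy)) (inv_mem hx)) ?_
  exact congrArg Subtype.val h

theorem omega_mul_pow {x y : R} (hx : x ∈ Subgroup.centralizer (A : Set R)) (hy : y ∈ Subgroup.centralizer (A : Set R))
    (hxA : x ^ p ∈ A) : (x * y) ^ p = x ^ p * y ^ p :=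
  congrArg Subtype.val (pow_mul_of_omega F.two (F.pgroup.to_subgroup _) (fun _ => F.cen_C)
    (x := (⟨x, hx⟩ : Subgroup.centralizer (A : Set R))) (Subtype.ext (by simpa using F.exp _ hxA)) ⟨y, hy⟩)

theorem omega_mul_pow' {x y : R} (hx : x ∈ Subgroup.centralizer (A : Set R)) (hy : y ∈ Subgroup.centralizer (A : Set R))
    (hyA : y ^ p ∈ A) : (x * y) ^ p = x ^ p * y ^ p := by
  have hc := F.comm_mem hy hx hyA
  have h1 : ⁅y, x⁆ ∈ A := by rw [← commutatorElement_inv]; exact inv_mem hc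
  exact mul_pow_two F.two (Subgroup.mem_centralizer_iff.mp hx _ h1)
    (Subgroup.mem_centralizer_iff.mp hy _ h1) (F.exp _ h1)

/-- Fixed points inside the centraliser reduced to the line give maximal class. -/
theorem class_of_fixed {n : ℕ} (hn : Nat.card R = p ^ n) {g : R} (hg : g ∉ Subgroup.centralizer (A : Set R))
    (hfix : ∀ m ∈ Subgroup.centralizer (A : Set R), Commute g m → m ∈ Subgroup.zpowers ζ) :
    Group.nilpotencyClass R = n - 1 := by
  have hp := (Fact.out : p.Prime)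
  apply CfsgLib.MaximalClass.class_of_centralizer hn (x := g)
  set C := Subgroup.centralizer ({g} : Set R) with hC
  haveI := F.C_normal
  set f := (QuotientGroup.mk' (Subgroup.centralizer (A : Set R))).comp C.subtype with hf
  have hker : f.ker = (Subgroup.zpowers ζ).subgroupOf C := by
    ext c
    rw [MonoidHom.mem_ker, Subgroup.mem_subgroupOf]
    show (QuotientGroup.mk (c : R) : R ⧸ Subgroup.centralizer (A : Set R)) = 1 ↔ _
    rw [QuotientGroup.eq_one_iff]
    exact ⟨fun h => hfix c h (Subgroup.mem_centralizer_singleton_iff.mp c.2).symm,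
      fun h => F.A_le (F.ze_mem h)⟩
  have hle : Subgroup.zpowers ζ ≤ C := fun x hx =>
    Subgroup.mem_centralizer_singleton_iff.mpr (Subgroup.mem_center_iff.mp (F.ze_center hx) g).symm
  have hQ : Nat.card (R ⧸ Subgroup.centralizer (A : Set R)) = p := F.index_C
  have hne : QuotientGroup.mk' (Subgroup.centralizer (A : Set R)) g ≠ 1 := fun h => hg ((QuotientGroup.eq_one_iff g).mp h)
  have hrange : f.range = ⊤ := by
    refine top_le_iff.mp ?_
    rw [← zpowers_eq_top_of_prime_card hQ hne, Subgroup.zpowers_le]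
    exact ⟨⟨g, Subgroup.mem_centralizer_singleton_iff.mpr rfl⟩, rfl⟩
  rw [← f.ker.card_mul_index, Subgroup.index_ker, hrange, Subgroup.card_top, hQ, hker,
    Nat.card_congr (Subgroup.subgroupOfEquivOfLe hle).toEquiv, Nat.card_zpowers, F.zeta_order, sq]

end Frame

end CfsgLib.Blackburn
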