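import Cfsg.Agent.Lib.MetacyclicOdd
import Cfsg.Agent.Lib.PGroup.Blackburn.Setup

/-!
The case of a centraliser with cyclic quotient by `A`.
-/

set_option autoImplicit false
set_option linter.unusedSectionVars false
set_option maxHeartbeats 800000

universe u

namespace CfsgLib.Blackburn

variable {R : Type u} [Group R] [Finite R] {p : ℕ} [Fact p.Prime]

theorem zpow_congr_of_dvd {x : R} (hx : x ^ p = 1) {i j : ℤ} (h : (p : ℤ) ∣ i - j) : x ^ i = x ^ j := by
  obtain ⟨t, ht⟩ := h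
  rw [show i = j + (p : ℤ) * t by linarith, zpow_add, zpow_mul, zpow_natCast, hx, one_zpow, mul_one]

theorem dvd_of_zpow_eq_one {x : R} (hx : x ^ p = 1) (hx1 : x ≠ 1) {i : ℤ} (h : x ^ i = 1) : (p : ℤ) ∣ i := by
  rw [← orderOf_eq_prime hx hx1, orderOf_dvd_iff_zpow_eq_one, h]

theorem isMetacyclic_of_card (hR : IsPGroup p R) {n : ℕ} (hn : Nat.card R = p ^ n) {g : R}
    (h : g ^ p ^ (n - 2) ≠ 1) (hn2 : 2 ≤ n) : Cfsg.IsMetacyclic R := by
  have hp := (Fact.out : p.Prime)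
  obtain ⟨k, hk⟩ := hR g
  obtain ⟨j, -, hj⟩ := (Nat.dvd_prime_pow hp).mp (orderOf_dvd_of_pow_eq_one hk)
  have hj1 : n - 1 ≤ j := by
    by_contra hlt
    apply h
    obtain ⟨d, hd⟩ := Nat.exists_eq_add_of_le (show j ≤ n - 2 by omega)
    rw [hd, pow_add, pow_mul, ← hj, pow_orderOf_eq_one, one_pow]
  have hj2 : j ≤ n := (Nat.pow_dvd_pow_iff_le_right hp.one_lt).mp (by rw [← hj, ← hn]; exact orderOf_dvd_natCard g)
  have hidx : (Subgroup.zpowers g).index = p ^ (n - j) := by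
    have h1 := (Subgroup.zpowers g).card_mul_index
    rw [Nat.card_zpowers, hj, hn, show p ^ n = p ^ j * p ^ (n - j) by rw [← pow_add]; congr 1; omega] at h1
    exact Nat.eq_of_mul_eq_mul_left (pow_pos hp.pos j) h1
  rcases (show n - j = 0 ∨ n - j = 1 by omega) with e | e
  · rw [e, pow_zero, Subgroup.index_eq_one] at hidx
    haveI : IsCyclic R := ⟨⟨g, fun x => Subgroup.mem_zpowers_iff.mp (by rw [hidx]; exact Subgroup.mem_top x)⟩⟩
    exact ⟨⊥, inferInstance, Subgroup.isCyclic _, isCyclic_of_surjective _ (QuotientGroup.mk'_surjective _)⟩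
  · rw [e, pow_one] at hidx
    haveI := CfsgLib.CyclicMax.normal_of_index_prime hR hidx
    exact ⟨Subgroup.zpowers g, inferInstance, inferInstance,
      isCyclic_of_prime_card (p := p) (by rw [← Subgroup.index_eq_card]; exact hidx)⟩

namespace Frame

variable {A : Subgroup R} {ζ η : R} (F : Frame p A ζ η)
include F

/-- The abelian centraliser `⟨η, z⟩`. -/
theorem cyclic_case {n : ℕ} (hn : Nat.card R = p ^ n) (hn3 : 3 ≤ n) {z : R}
    (hzC : z ∈ Subgroup.centralizer (A : Set R))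
    (hspan : ∀ m ∈ Subgroup.centralizer (A : Set R), ∃ i j : ℤ, m = η ^ i * z ^ j)
    (hzord : orderOf z = p ^ (n - 2)) (hzζ : z ^ p ^ (n - 3) = ζ) :
    Cfsg.IsMetacyclic R ∨ Types p n A ∨ (p = 3 ∧ Uniserial p A ∧ Group.nilpotencyClass R = n - 1) := by
  have hp := (Fact.out : p.Prime)
  have hηp := F.exp η F.eta_mem
  have hζp := F.exp ζ F.zeta_mem
  have hq : p ^ (n - 2) = p ^ (n - 3) * p := by rw [← pow_succ]; congr 1; omega
  set P : ℤ := ((p ^ (n - 3) : ℕ) : ℤ) with hP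
  have hzP : ∀ t : ℤ, z ^ (P * t) = ζ ^ t := fun t => by rw [zpow_mul, hP, zpow_natCast, hzζ]
  have hηz : Commute η z := Subgroup.mem_centralizer_iff.mp hzC η F.eta_mem
  have hM : ∀ i j : ℤ, η ^ i * z ^ j ∈ Subgroup.centralizer (A : Set R) := fun i j =>
    mul_mem (zpow_mem (F.A_le F.eta_mem) i) (zpow_mem hzC j)
  have huniq : ∀ i j : ℤ, η ^ i * z ^ j = 1 → (p : ℤ) ∣ i ∧ ((p ^ (n - 2) : ℕ) : ℤ) ∣ j := by
    intro i j h
    have hz : z ^ j = (η ^ i)⁻¹ := eq_inv_of_mul_eq_one_right h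
    have h1 : z ^ ((p : ℤ) * j) = 1 := by
      rw [mul_comm, zpow_mul, hz, zpow_natCast, inv_pow, ← zpow_natCast, ← zpow_mul, mul_comm i, zpow_mul,
        zpow_natCast, hηp, one_zpow, inv_one]
    have h2 : P ∣ j := by
      rw [← orderOf_dvd_iff_zpow_eq_one, hzord, hq, Nat.cast_mul, ← hP, mul_comm P] at h1
      exact (mul_dvd_mul_iff_left (by exact_mod_cast hp.ne_zero)).mp h1
    obtain ⟨t, rfl⟩ := h2
    rw [hzP] at hz
    have hi : (p : ℤ) ∣ i := by
      by_contra hi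
      apply F.eta_not
      obtain ⟨u, v, huv⟩ := (Nat.prime_iff_prime_int.mp hp).coprime_iff_not_dvd.mpr hi
      have e : η = (η ^ i) ^ v := by
        rw [← zpow_mul]
        conv_lhs => rw [← zpow_one η]
        exact zpow_congr_of_dvd hηp ⟨u, by linear_combination -huv⟩
      rw [e, show η ^ i = (ζ ^ t)⁻¹ by rw [hz, inv_inv]]
      exact zpow_mem (inv_mem (Subgroup.zpow_mem_zpowers ζ t)) v
    refine ⟨hi, ?_⟩
    have h3 : ζ ^ t = 1 := by
      rw [hz, inv_eq_one]
      exact (zpow_congr_of_dvd hηp (j := 0) (by simpa using hi)).trans (zpow_zero η)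
    rw [hq, Nat.cast_mul, ← hP]
    exact mul_dvd_mul_left P (dvd_of_zpow_eq_one hζp F.zeta_ne h3)
  -- an element outside
  obtain ⟨g, hg, hgpick⟩ : ∃ g : R, g ∉ Subgroup.centralizer (A : Set R) ∧
      ((∃ x : R, x ∉ Subgroup.centralizer (A : Set R) ∧ x ^ p = 1) → g ^ p = 1) := by
    by_cases h : ∃ x : R, x ∉ Subgroup.centralizer (A : Set R) ∧ x ^ p = 1
    · obtain ⟨x, hx, hxp⟩ := h
      exact ⟨x, hx, fun _ => hxp⟩
    · obtain ⟨g, hg⟩ : ∃ g, g ∉ Subgroup.centralizer (A : Set R) := by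
        by_contra hh
        push Not at hh
        exact F.moved fun a ha => Subgroup.mem_center_iff.mpr fun g =>
          (Subgroup.mem_centralizer_iff.mp (hh g) a ha).symm
      exact ⟨g, hg, fun hh => absurd hh h⟩
  obtain ⟨k, hk⟩ := Subgroup.mem_zpowers_iff.mp (F.step g)
  have hgη : g * η * g⁻¹ = η * ζ ^ k := by rw [hk]; group
  have hkp : ¬ (p : ℤ) ∣ k := fun h => hg (F.mem_C_iff.mpr (by
    rw [zpow_congr_of_dvd hζp (j := 0) (by simpa using h), zpow_zero, mul_one, mul_inv_eq_iff_eq_mul] at hgη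
    exact hgη))
  have hζc : ∀ (t : ℤ) (x : R), Commute x (ζ ^ t) := fun t x => (F.zc x).zpow_right t
  have hgηi : ∀ i : ℤ, g * η ^ i * g⁻¹ = η ^ i * ζ ^ (k * i) := fun i => by
    rw [← conj_zpow, hgη, (hζc k η).mul_zpow, ← zpow_mul]
  haveI := F.C_normal
  obtain ⟨b, a, hab⟩ := hspan _ ((inferInstance : (Subgroup.centralizer (A : Set R)).Normal).conj_mem z hzC g)
  obtain ⟨bl, l, hgz, hbl0⟩ : ∃ b l : ℤ, g * z * g⁻¹ = η ^ b * z * ζ ^ l ∧ (n = 3 → b = 0 ∧ l = 0) := by
    by_cases hn4 : n = 3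
    · refine ⟨0, 0, ?_, fun _ => ⟨rfl, rfl⟩⟩
      rw [hn4, Nat.sub_self, pow_zero, pow_one] at hzζ
      rw [hzζ, (F.zc g).eq]; group
    -- `a ≡ 1` modulo `p`
    have ha1 : (p : ℤ) ∣ a - 1 := by
      haveI := F.normal
      obtain ⟨r, hr, hgr⟩ := exists_exponent (F.pgroup.to_quotient A) (c := (QuotientGroup.mk' A z))
        (x := QuotientGroup.mk' A g) (Subgroup.mem_zpowers_iff.mpr ⟨a, by
          rw [← map_inv, ← map_mul, ← map_mul, hab, map_mul, map_zpow, map_zpow,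
            (show QuotientGroup.mk' A η = 1 from (QuotientGroup.eq_one_iff η).mpr F.eta_mem), one_zpow, one_mul]⟩)
      rw [← map_inv, ← map_mul, ← map_mul, hab, ← map_zpow, eq_comm, QuotientGroup.mk'_eq_mk'] at hgr
      obtain ⟨v, hv, e⟩ := hgr
      obtain ⟨i, j, rfl⟩ := F.spans v hv
      have h1 : η ^ (i - b) * z ^ (r + P * j - a) = 1 := by
        have e' : η ^ b * z ^ a = η ^ i * z ^ (r + P * j) := by
          rw [← e, zpow_add, hzP, ← mul_assoc (z ^ r), ((hηz.zpow_zpow i r)).eq.symm]; group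
        rw [zpow_sub, zpow_sub,
          show η ^ i * (η ^ b)⁻¹ * (z ^ (r + P * j) * (z ^ a)⁻¹) = η ^ i * ((η ^ b)⁻¹ * z ^ (r + P * j)) * (z ^ a)⁻¹ by group,
          ((hηz.zpow_zpow b (r + P * j)).inv_left).eq, ← mul_assoc (η ^ i), ← e',
          (hηz.zpow_zpow b a).eq]
        group
      have h2 : (p : ℤ) ∣ r + P * j - a := by
        refine dvd_trans ?_ (huniq _ _ h1).2
        exact_mod_cast dvd_pow_self p (show n - 2 ≠ 0 by omega)
      have h3 : (p : ℤ) ∣ P * j := Dvd.dvd.mul_right (by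
        rw [hP]; exact_mod_cast dvd_pow_self p (show n - 3 ≠ 0 by omega)) j
      have : a - 1 = (r - 1) + P * j - (r + P * j - a) := by ring
      rw [this]
      exact dvd_sub (dvd_add hr h3) h2
    have hpow : ∀ i : ℕ, g ^ i * z * (g ^ i)⁻¹ =
        η ^ ((i : ℤ) * b) * z ^ (a ^ i) * ζ ^ (k * b * (i.choose 2 : ℕ)) := by
      intro i
      induction i with
      | zero => simp
      | succ i ih =>
        have hai : (p : ℤ) ∣ a ^ i - 1 := ha1.trans (sub_one_dvd_pow_sub_one a i)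
        calc g ^ (i + 1) * z * (g ^ (i + 1))⁻¹ = g * (g ^ i * z * (g ^ i)⁻¹) * g⁻¹ := by rw [pow_succ']; group
          _ = g * η ^ ((i : ℤ) * b) * g⁻¹ * ((g * z * g⁻¹) ^ (a ^ i)) * ζ ^ (k * b * (i.choose 2 : ℕ)) := by
            rw [ih, conj_zpow]
            calc g * (η ^ ((i : ℤ) * b) * z ^ a ^ i * ζ ^ (k * b * (i.choose 2 : ℕ))) * g⁻¹ =
                g * η ^ ((i : ℤ) * b) * g⁻¹ * (g * z ^ a ^ i) * (ζ ^ (k * b * (i.choose 2 : ℕ)) * g⁻¹) := by group
              _ = _ := by rw [← (hζc _ g⁻¹).eq]; group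
          _ = η ^ ((i : ℤ) * b) * ζ ^ (k * (i * b)) * ((η ^ b * z ^ a) ^ (a ^ i)) *
              ζ ^ (k * b * (i.choose 2 : ℕ)) := by rw [hgηi, hab]
          _ = η ^ ((i : ℤ) * b) * (η ^ b * z ^ (a ^ (i + 1))) * ζ ^ (k * (i * b)) *
              ζ ^ (k * b * (i.choose 2 : ℕ)) := by
            rw [(hηz.zpow_zpow b a).mul_zpow, ← zpow_mul, ← zpow_mul,
              zpow_congr_of_dvd hηp (j := b) (i := b * a ^ i) (by
                rw [show b * a ^ i - b = b * (a ^ i - 1) by ring]; exact Dvd.dvd.mul_left hai b),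
              ← pow_succ', mul_assoc (η ^ ((i : ℤ) * b)) (ζ ^ _), ← (hζc (k * (i * b)) (η ^ b * z ^ a ^ (i + 1))).eq]
            group
          _ = _ := by
            rw [Nat.choose_succ_succ, Nat.choose_one_right]
            push_cast
            rw [← mul_assoc (η ^ ((i : ℤ) * b)), ← zpow_add, mul_assoc _ (ζ ^ _), ← zpow_add]
            ring_nf
    have hfix : g ^ p * z * (g ^ p)⁻¹ = z := by
      obtain ⟨i, j, e⟩ := hspan _ (F.pow_p_mem g)
      rw [e]
      have : Commute (η ^ i * z ^ j) z := (hηz.zpow_left i).mul_left (Commute.refl z |>.zpow_left j)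
      rw [this.eq, mul_inv_cancel_right]
    have h1 := hpow p
    rw [hfix, zpow_mul η, zpow_natCast, hηp, one_zpow, one_mul,
      zpow_congr_of_dvd hζp (j := 0) (i := k * b * (p.choose 2 : ℕ)) (by
        rw [sub_zero]
        exact Dvd.dvd.mul_left (Int.natCast_dvd_natCast.mpr (hp.dvd_choose_self two_ne_zero
          (by have := hp.two_le; have := F.two; omega))) _), zpow_zero, mul_one] at h1
    have h2 : ((p ^ (n - 2) : ℕ) : ℤ) ∣ a ^ p - 1 := by
      rw [← hzord, orderOf_dvd_iff_zpow_eq_one, zpow_sub_one, ← h1, mul_inv_cancel]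
    obtain ⟨c, hc⟩ := CfsgLib.Metacyclic.geo_prime (hp.odd_of_ne_two F.two) ha1
    have h3 : P ∣ a - 1 := by
      have h4 : a ^ p - 1 = (p : ℤ) * ((a - 1) * (1 + p * c)) := by
        rw [← CfsgLib.Metacyclic.sub_one_mul_geo a p, hc]; ring
      rw [h4, hq, Nat.cast_mul, ← hP, mul_comm P] at h2
      have h5 := (mul_dvd_mul_iff_left (by exact_mod_cast hp.ne_zero : (p : ℤ) ≠ 0)).mp h2
      refine IsCoprime.dvd_of_dvd_mul_right ?_ h5
      rw [hP, Nat.cast_pow]
      exact IsCoprime.pow_left ⟨-c, 1, by ring⟩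
    obtain ⟨l, hl⟩ := h3
    refine ⟨b, l, ?_, fun h => absurd h hn4⟩
    rw [hab, show a = 1 + P * l by linarith, zpow_add, zpow_one, hzP, mul_assoc]
  clear hab
  -- iterated conjugation
  have hpow : ∀ i : ℕ, g ^ i * z * (g ^ i)⁻¹ =
      η ^ ((i : ℤ) * bl) * z * ζ ^ ((i : ℤ) * l + k * bl * (i.choose 2 : ℕ)) := by
    intro i
    induction i with
    | zero => simp
    | succ i ih =>
      calc g ^ (i + 1) * z * (g ^ (i + 1))⁻¹ = g * (g ^ i * z * (g ^ i)⁻¹) * g⁻¹ := by rw [pow_succ']; group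
        _ = (g * η ^ ((i : ℤ) * bl) * g⁻¹) * (g * z) * (ζ ^ ((i : ℤ) * l + k * bl * (i.choose 2 : ℕ)) * g⁻¹) := by
          rw [ih]; group
        _ = (g * η ^ ((i : ℤ) * bl) * g⁻¹) * (g * z * g⁻¹) * ζ ^ ((i : ℤ) * l + k * bl * (i.choose 2 : ℕ)) := by
          rw [← (hζc _ g⁻¹).eq]; group
        _ = η ^ ((i : ℤ) * bl) * η ^ bl * z * ζ ^ (k * ((i : ℤ) * bl)) * ζ ^ l *
            ζ ^ ((i : ℤ) * l + k * bl * (i.choose 2 : ℕ)) := by
          rw [hgηi, hgz]
          calc η ^ ((i : ℤ) * bl) * ζ ^ (k * ((i : ℤ) * bl)) * (η ^ bl * z * ζ ^ l) * ζ ^ ((i : ℤ) * l + k * bl * (i.choose 2 : ℕ))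
              = η ^ ((i : ℤ) * bl) * (ζ ^ (k * ((i : ℤ) * bl)) * (η ^ bl * z)) * ζ ^ l * ζ ^ ((i : ℤ) * l + k * bl * (i.choose 2 : ℕ)) := by group
            _ = _ := by rw [← (hζc _ (η ^ bl * z)).eq]; group
        _ = _ := by
          rw [Nat.choose_succ_succ, Nat.choose_one_right]
          push_cast
          rw [← zpow_add, mul_assoc _ (ζ ^ _), ← zpow_add, mul_assoc _ (ζ ^ _), ← zpow_add]
          ring_nf
  have hgp : g ^ p ∈ Subgroup.centralizer (A : Set R) := F.pow_p_mem g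
  have hgen : ∀ S : Subgroup R, η ∈ S → z ∈ S → ∀ i : ℕ, ¬ p ∣ i → g ^ i ∈ S → S = ⊤ := by
    intro S hη hz i hi hgi
    have hCS : Subgroup.centralizer (A : Set R) ≤ S := fun m hm => by
      obtain ⟨u, v, rfl⟩ := hspan m hm
      exact mul_mem (zpow_mem hη u) (zpow_mem hz v)
    have hne : QuotientGroup.mk' (Subgroup.centralizer (A : Set R)) (g ^ i) ≠ 1 := by
      intro h
      have ho : orderOf (QuotientGroup.mk' (Subgroup.centralizer (A : Set R)) g) = p :=
        orderOf_eq_prime (by rw [← map_pow]; exact (QuotientGroup.eq_one_iff _).mpr hgp)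
          (fun h => hg ((QuotientGroup.eq_one_iff g).mp h))
      rw [map_pow, ← orderOf_dvd_iff_pow_eq_one, ho] at h
      exact hi h
    refine top_le_iff.mp fun x _ => ?_
    obtain ⟨t, ht⟩ := Subgroup.mem_zpowers_iff.mp (show QuotientGroup.mk' _ x ∈ Subgroup.zpowers _ by
      rw [zpowers_eq_top_of_prime_card (show Nat.card (R ⧸ Subgroup.centralizer (A : Set R)) = p from F.index_C) hne]
      exact Subgroup.mem_top _)
    rw [← map_zpow, QuotientGroup.mk'_eq_mk'] at ht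
    obtain ⟨m, hm, rfl⟩ := ht
    exact mul_mem (zpow_mem hgi t) (hCS hm)
  have hzq : z ^ p ^ (n - 2) = 1 := by rw [← hzord, pow_orderOf_eq_one]
  by_cases hx : ∃ x : R, x ∉ Subgroup.centralizer (A : Set R) ∧ x ^ p = 1
  · -- the two families
    have hgp1 := hgpick hx
    right; left
    refine ⟨hx, ?_⟩
    by_cases hb : (p : ℤ) ∣ bl
    · left
      refine ⟨hn3, ?_⟩
      obtain ⟨u, v, huv⟩ := (Nat.prime_iff_prime_int.mp hp).coprime_iff_not_dvd.mpr hkp
      set m : ℤ := -(v * l) with hm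
      set z' := z * η ^ m with hz'
      have hgz' : g * z' * g⁻¹ = z' := by
        rw [hz', show g * (z * η ^ m) * g⁻¹ = (g * z * g⁻¹) * (g * η ^ m * g⁻¹) by group, hgz, hgηi,
          zpow_congr_of_dvd hηp (j := 0) (i := bl) (by simpa using hb), zpow_zero, one_mul]
        rw [show z * ζ ^ l * (η ^ m * ζ ^ (k * m)) = z * (ζ ^ l * η ^ m) * ζ ^ (k * m) by group,
          ← (hζc l (η ^ m)).eq, ← mul_assoc, mul_assoc (z * η ^ m), ← zpow_add,
          zpow_congr_of_dvd hζp (j := 0) (i := l + k * m) (by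
            rw [sub_zero, hm]; exact ⟨l * u, by linear_combination (-l) * huv⟩), zpow_zero, mul_one]
      have hz'P : z' ^ p ^ (n - 3) = ζ := by
        rw [hz', (hηz.symm.zpow_right m).mul_pow, hzζ]
        by_cases hn4 : n = 3
        · obtain ⟨-, hl0⟩ := hbl0 hn4
          rw [show m = 0 by rw [hm, hl0]; ring, zpow_zero, one_pow, mul_one]
        · rw [← zpow_natCast, ← zpow_mul, zpow_congr_of_dvd hηp (j := 0)
            (i := m * ((p ^ (n - 3) : ℕ) : ℤ)) (by
              rw [sub_zero]; exact Dvd.dvd.mul_left (Int.natCast_dvd_natCast.mpr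
                (dvd_pow_self p (show n - 3 ≠ 0 by omega))) m), zpow_zero, mul_one]
      set y := η ^ (-v) with hy
      have hηy : η ∈ Subgroup.closure ({g, y, z'} : Set R) := by
        have hmem : y ∈ Subgroup.closure ({g, y, z'} : Set R) :=
          Subgroup.subset_closure (Set.mem_insert_of_mem _ (Set.mem_insert _ _))
        have e : η = y ^ (-k) := by
          rw [hy, ← zpow_mul]
          conv_lhs => rw [← zpow_one η]
          exact zpow_congr_of_dvd hηp ⟨u, by linear_combination -huv⟩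
        rw [e]; exact zpow_mem hmem _
      have hgen' := hgen (Subgroup.closure ({g, y, z'} : Set R)) hηy (by
        rw [show z = z' * (η ^ m)⁻¹ by rw [hz', mul_inv_cancel_right]]
        exact mul_mem (Subgroup.subset_closure (Set.mem_insert_of_mem _ (Set.mem_insert_of_mem _ rfl)))
          (inv_mem (zpow_mem hηy m))) 1 hp.not_dvd_one
          (by rw [pow_one]; exact Subgroup.subset_closure (Set.mem_insert _ _))
      refine ⟨g, y, z', hgen', hgp1, ?_, ?_, mul_inv_eq_iff_eq_mul.mp hgz', ?_, ?_⟩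
      · rw [hy, ← zpow_natCast, ← zpow_mul, mul_comm, zpow_mul, zpow_natCast, hηp, one_zpow]
      · rw [hq, pow_mul, hz'P, hζp]
      · exact ((hηz.mul_right ((Commute.refl η).zpow_right m)).zpow_left _).eq
      · rw [hz'P, hy]
        have h1 := hgηi (-v)
        rw [zpow_congr_of_dvd hζp (i := k * -v) (j := -1) ⟨u, by linear_combination -huv⟩, zpow_neg_one] at h1
        calc g⁻¹ * η ^ (-v) * g = g⁻¹ * (g * η ^ (-v) * g⁻¹ * ζ) * g := by rw [h1]; group
          _ = η ^ (-v) * (g⁻¹ * ζ * g) := by group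
          _ = η ^ (-v) * ζ := by rw [(F.zc g⁻¹).eq, inv_mul_cancel_right]
    · right
      have hn4 : n ≠ 3 := fun h => hb (by rw [(hbl0 h).1]; exact dvd_zero _)
      refine ⟨by omega, ?_⟩
      -- normalise the constant
      obtain ⟨i, s, hi, hs, hsi⟩ : ∃ i s : ℕ, ¬ p ∣ i ∧ (s = 1 ∨ ¬ IsSquare (s : ZMod p)) ∧
          ((i : ZMod p) ^ 2 * ((k * bl : ℤ) : ZMod p) = s) := by
        set κ : ZMod p := ((k * bl : ℤ) : ZMod p) with hκ
        have hκ0 : κ ≠ 0 := by
          rw [hκ, Ne, ZMod.intCast_zmod_eq_zero_iff_dvd]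
          exact fun h => ((Nat.prime_iff_prime_int.mp hp).dvd_or_dvd h).elim hkp hb
        by_cases hsq : IsSquare κ
        · obtain ⟨c, hc⟩ := hsq
          have hc0 : c ≠ 0 := fun h => hκ0 (by rw [hc, h, mul_zero])
          refine ⟨c⁻¹.val, 1, fun h => inv_ne_zero hc0 ?_, Or.inl rfl, ?_⟩
          · rw [← ZMod.natCast_zmod_val c⁻¹, ZMod.natCast_eq_zero_iff]; exact h
          · rw [ZMod.natCast_zmod_val, hc, Nat.cast_one]; field_simp
        · exact ⟨1, κ.val, hp.not_dvd_one, Or.inr (by rwa [ZMod.natCast_zmod_val]),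
            by rw [ZMod.natCast_zmod_val, Nat.cast_one, one_pow, one_mul]⟩
      set y := η ^ ((i : ℤ) * bl) * ζ ^ ((i : ℤ) * l + k * bl * (i.choose 2 : ℕ)) with hy
      set x := (g ^ i)⁻¹ with hx
      refine ⟨s, x, y, z, hs, ?_, ?_, ?_, hzq, ?_, ?_, ?_⟩
      · have hxm : g ^ i ∈ Subgroup.closure ({x, y, z} : Set R) := by
          rw [← inv_inv (g ^ i)]; exact inv_mem (Subgroup.subset_closure (Set.mem_insert _ _))
        have hzm : z ∈ Subgroup.closure ({x, y, z} : Set R) :=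
          Subgroup.subset_closure (Set.mem_insert_of_mem _ (Set.mem_insert_of_mem _ rfl))
        refine hgen _ ?_ hzm i hi hxm
        have hib : ¬ (p : ℤ) ∣ (i : ℤ) * bl := fun h => by
          rcases (Nat.prime_iff_prime_int.mp hp).dvd_or_dvd h with h | h
          · exact hi (Int.natCast_dvd_natCast.mp h)
          · exact hb h
        obtain ⟨u, v, huv⟩ := (Nat.prime_iff_prime_int.mp hp).coprime_iff_not_dvd.mpr hib
        have hm1 : η ^ ((i : ℤ) * bl) ∈ Subgroup.closure ({x, y, z} : Set R) := by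
          rw [show η ^ ((i : ℤ) * bl) = y * (ζ ^ ((i : ℤ) * l + k * bl * (i.choose 2 : ℕ)))⁻¹ by
            rw [hy, mul_inv_cancel_right]]
          refine mul_mem (Subgroup.subset_closure (Set.mem_insert_of_mem _ (Set.mem_insert _ _)))
            (inv_mem (zpow_mem ?_ _))
          rw [← hzζ]; exact pow_mem hzm _
        have e : η = (η ^ ((i : ℤ) * bl)) ^ v := by
          rw [← zpow_mul]
          conv_lhs => rw [← zpow_one η]
          exact zpow_congr_of_dvd hηp ⟨u, by linear_combination -huv⟩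
        rw [e]; exact zpow_mem hm1 v
      · rw [hx, inv_pow, ← pow_mul, mul_comm, pow_mul, hgp1, one_pow, inv_one]
      · rw [hy, (hζc _ _).mul_pow, ← zpow_natCast, ← zpow_natCast (ζ ^ _), ← zpow_mul, ← zpow_mul,
          zpow_congr_of_dvd hηp (j := 0) (by simp), zpow_congr_of_dvd hζp (j := 0) (by simp), zpow_zero, zpow_zero,
          one_mul]
      · exact ((hηz.zpow_left _).mul_left ((F.zc z).symm.zpow_left _)).eq
      · have h1 : g ^ i * η ^ ((i : ℤ) * bl) * (g ^ i)⁻¹ =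
            η ^ ((i : ℤ) * bl) * ζ ^ ((i : ℤ) * (k * ((i : ℤ) * bl))) := by
          have hit : ∀ t : ℕ, g ^ t * η ^ ((i : ℤ) * bl) * (g ^ t)⁻¹ =
              η ^ ((i : ℤ) * bl) * ζ ^ ((t : ℤ) * (k * ((i : ℤ) * bl))) := by
            intro t
            induction t with
            | zero => simp
            | succ t ih =>
              rw [show g ^ (t + 1) * η ^ ((i : ℤ) * bl) * (g ^ (t + 1))⁻¹ =
                g * (g ^ t * η ^ ((i : ℤ) * bl) * (g ^ t)⁻¹) * g⁻¹ by rw [pow_succ']; group, ih,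
                show g * (η ^ ((i : ℤ) * bl) * ζ ^ ((t : ℤ) * (k * ((i : ℤ) * bl)))) * g⁻¹ =
                  g * η ^ ((i : ℤ) * bl) * (ζ ^ ((t : ℤ) * (k * ((i : ℤ) * bl))) * g⁻¹) by group,
                ← (hζc _ g⁻¹).eq, ← mul_assoc, hgηi, mul_assoc, ← zpow_add]
              push_cast; ring_nf
          exact hit i
        have h2 : ζ ^ ((i : ℤ) * (k * ((i : ℤ) * bl))) = ζ ^ ((s : ℕ) : ℤ) := by
          refine zpow_congr_of_dvd hζp ?_
          rw [← ZMod.intCast_zmod_eq_zero_iff_dvd]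
          push_cast
          push_cast at hsi
          rw [sub_eq_zero]; linear_combination hsi
        rw [hx, inv_inv, mul_comm s, pow_mul, hzζ, ← zpow_natCast ζ s, ← h2, hy,
          show g ^ i * (η ^ ((i : ℤ) * bl) * ζ ^ ((i : ℤ) * l + k * bl * (i.choose 2 : ℕ))) * (g ^ i)⁻¹ =
            g ^ i * η ^ ((i : ℤ) * bl) * (ζ ^ ((i : ℤ) * l + k * bl * (i.choose 2 : ℕ)) * (g ^ i)⁻¹) by group,
          ← (hζc _ (g ^ i)⁻¹).eq, ← mul_assoc, h1, mul_assoc, ((Commute.refl ζ).zpow_zpow _ _).eq, ← mul_assoc]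
      · rw [hx, inv_inv, hpow, hy, mul_assoc, mul_assoc, (hζc _ z).eq, ← mul_assoc]
  -- no element of order `p` outside
  push Not at hx
  obtain ⟨i, j, hij⟩ := hspan _ hgp
  by_cases hj : (p : ℤ) ∣ j
  swap
  · left
    refine isMetacyclic_of_card F.pgroup hn (g := g) ?_ (by omega)
    intro h
    rw [hq, mul_comm, pow_mul, hij, (hηz.zpow_zpow i j).mul_pow, ← zpow_natCast, ← zpow_natCast (z ^ j),
      ← zpow_mul, ← zpow_mul, mul_comm j, ← hP] at h
    have h2 := (huniq _ _ h).2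
    rw [hq, Nat.cast_mul, ← hP] at h2
    exact hj ((mul_dvd_mul_iff_left (by rw [hP]; exact_mod_cast (pow_pos hp.pos _).ne')).mp h2)
  obtain ⟨j', rfl⟩ := hj
  have hgz1 : g * z ^ ((p : ℤ) * j') * g⁻¹ = z ^ ((p : ℤ) * j') := by
    have hh : (p : ℤ) ∣ bl * ((p : ℤ) * j') - 0 := by simp [Dvd.dvd.mul_left, Dvd.intro j' rfl]
    rw [← conj_zpow, hgz, (hζc l (η ^ bl * z)).mul_zpow, ((hηz.zpow_left bl)).mul_zpow, ← zpow_mul, ← zpow_mul,
      zpow_congr_of_dvd hηp hh, zpow_congr_of_dvd hζp (i := l * ((p : ℤ) * j')) (j := 0)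
        (by simp [Dvd.dvd.mul_left, Dvd.intro j' rfl]), zpow_zero, zpow_zero, one_mul, mul_one]
  have hi : (p : ℤ) ∣ i := by
    have h1 : g * (η ^ i * z ^ ((p : ℤ) * j')) * g⁻¹ = η ^ i * z ^ ((p : ℤ) * j') := by
      rw [← hij, ((Commute.refl g).pow_right p).eq, mul_inv_cancel_right]
    rw [show g * (η ^ i * z ^ ((p : ℤ) * j')) * g⁻¹ = (g * η ^ i * g⁻¹) * (g * z ^ ((p : ℤ) * j') * g⁻¹) by group,
      hgz1, hgηi] at h1
    have h2 : ζ ^ (k * i) = 1 := mul_eq_left.mp (mul_right_cancel h1)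
    exact ((Nat.prime_iff_prime_int.mp hp).dvd_or_dvd (dvd_of_zpow_eq_one hζp F.zeta_ne h2)).resolve_left hkp
  rw [zpow_congr_of_dvd hηp (j := 0) (by simpa using hi), zpow_zero, one_mul] at hij
  -- the powers of `z ^ m * g`
  have hnorm : ∀ (m : ℕ) (i : ℕ), (z ^ m * g) ^ i =
      η ^ (bl * m * (i.choose 2 : ℕ)) * z ^ (i * m) *
        ζ ^ (l * m * (i.choose 2 : ℕ) + k * bl * m * (i.choose 3 : ℕ)) * g ^ i := by
    intro m i
    induction i with
    | zero => simp
    | succ i ih =>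
      have hcj : g ^ i * z ^ m * (g ^ i)⁻¹ =
          η ^ ((i : ℤ) * bl * m) * z ^ m * ζ ^ (((i : ℤ) * l + k * bl * (i.choose 2 : ℕ)) * m) := by
        rw [← conj_pow, hpow, (hζc _ _).mul_pow, (hηz.zpow_left _).mul_pow, ← zpow_natCast, ← zpow_natCast (ζ ^ _),
          ← zpow_mul, ← zpow_mul]
      calc (z ^ m * g) ^ (i + 1) = η ^ (bl * m * (i.choose 2 : ℕ)) * z ^ (i * m) *
            ζ ^ (l * m * (i.choose 2 : ℕ) + k * bl * m * (i.choose 3 : ℕ)) * (g ^ i * z ^ m * (g ^ i)⁻¹) * g ^ (i + 1) := by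
            rw [pow_succ, ih, pow_succ]; group
        _ = η ^ (bl * m * (i.choose 2 : ℕ)) * (z ^ (i * m) * η ^ ((i : ℤ) * bl * m)) * z ^ m *
            (ζ ^ (l * m * (i.choose 2 : ℕ) + k * bl * m * (i.choose 3 : ℕ)) *
              ζ ^ (((i : ℤ) * l + k * bl * (i.choose 2 : ℕ)) * m)) * g ^ (i + 1) := by
            rw [hcj, mul_assoc (η ^ (bl * m * (i.choose 2 : ℕ)) * z ^ (i * m)) (ζ ^ _),
              ← mul_assoc (ζ ^ _) (η ^ _ * z ^ m), ← (hζc _ (η ^ ((i : ℤ) * bl * m) * z ^ m)).eq]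
            group
        _ = _ := by
            rw [((hηz.zpow_left ((i : ℤ) * bl * m)).pow_right (i * m)).symm.eq, ← zpow_add, ← mul_assoc,
              ← zpow_add, mul_assoc (η ^ _) (z ^ (i * m)), ← pow_add, Nat.choose_succ_succ i 1, Nat.choose_one_right,
              Nat.choose_succ_succ i 2]
            push_cast
            ring_nf
  set w := z ^ p * ζ ^ (k * bl * (p.choose 3 : ℕ)) with hw
  have hnw : ∀ m : ℕ, (z ^ m * g) ^ p = w ^ m * g ^ p := by
    intro m
    have hdvd : (p : ℤ) ∣ ((p.choose 2 : ℕ) : ℤ) :=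
      Int.natCast_dvd_natCast.mpr (hp.dvd_choose_self two_ne_zero (by have := hp.two_le; have := F.two; omega))
    rw [hnorm, zpow_congr_of_dvd hηp (j := 0) (by simpa using Dvd.dvd.mul_left hdvd _), zpow_zero, one_mul,
      zpow_congr_of_dvd hζp (j := k * bl * m * (p.choose 3 : ℕ)) (by
        rw [add_sub_cancel_right]; exact Dvd.dvd.mul_left hdvd _),
      hw, (hζc _ _).mul_pow, ← pow_mul, ← zpow_natCast (ζ ^ _), ← zpow_mul]
    ring_nf
  have hgw : g ^ p ∉ Subgroup.zpowers w := by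
    intro h
    obtain ⟨t, ht⟩ := mem_powers_iff_mem_zpowers.mpr (inv_mem h)
    refine hx (z ^ t * g) (fun hm => hg ?_) (by rw [hnw, show w ^ t = (g ^ p)⁻¹ from ht, inv_mul_cancel])
    have := mul_mem (inv_mem (pow_mem hzC t)) hm
    rwa [inv_mul_cancel_left] at this
  rw [zpow_mul, zpow_natCast] at hij
  rcases (show n = 3 ∨ n = 4 ∨ 5 ≤ n by omega) with h3 | h4 | h5
  · exfalso
    have hzp : z ^ p = 1 := by
      rw [h3, Nat.sub_self, pow_zero, pow_one] at hzζ
      rw [hzζ, hζp]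
    exact hgw (by rw [hij, hzp, one_zpow]; exact one_mem _)
  · rw [h4, show 4 - 3 = 1 from rfl, pow_one] at hzζ
    rw [hw, hzζ, ← zpow_one_add] at hgw
    rw [hzζ] at hij
    by_cases hu : (p : ℤ) ∣ 1 + k * bl * (p.choose 3 : ℕ)
    · right; right
      have hp3 : p = 3 := by
        by_contra hne
        have h3 : (p : ℤ) ∣ ((p.choose 3 : ℕ) : ℤ) := Int.natCast_dvd_natCast.mpr
          (hp.dvd_choose_self (by norm_num) (by
            have := hp.two_le; have := F.two; omega))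
        exact (Nat.prime_iff_prime_int.mp hp).not_dvd_one ((dvd_add_left (Dvd.dvd.mul_left h3 _)).mp hu)
      have hb : ¬ (p : ℤ) ∣ bl := fun h =>
        (Nat.prime_iff_prime_int.mp hp).not_dvd_one
          ((dvd_add_left (Dvd.dvd.mul_right (Dvd.dvd.mul_left h k) _)).mp hu)
      have hd : z⁻¹ * (g * z * g⁻¹) = η ^ bl * ζ ^ l := by
        rw [hgz, (hηz.zpow_left bl).eq]; group
      refine ⟨hp3, ⟨g, z, hg, hzC, by rw [hzζ]; exact F.zeta_mem, ?_, ?_⟩, ?_⟩
      · rw [hd]; exact mul_mem (zpow_mem F.eta_mem bl) (zpow_mem F.zeta_mem l)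
      · rw [hd]
        intro hc
        have h1 : η ^ bl ∈ Subgroup.center R := by
          have := mul_mem hc (inv_mem (zpow_mem F.zeta_center l))
          rwa [mul_inv_cancel_right] at this
        have h2 := hgηi bl
        rw [Subgroup.mem_center_iff.mp h1 g, mul_inv_cancel_right, eq_comm, mul_eq_left] at h2
        exact ((Nat.prime_iff_prime_int.mp hp).dvd_or_dvd (dvd_of_zpow_eq_one hζp F.zeta_ne h2)).elim hkp hb
      · refine F.class_of_fixed hn hg fun m hm hgm => ?_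
        obtain ⟨i', j'', rfl⟩ := hspan m hm
        have h1 : g * (η ^ i' * z ^ j'') * g⁻¹ = η ^ i' * z ^ j'' := by rw [hgm.eq, mul_inv_cancel_right]
        rw [show g * (η ^ i' * z ^ j'') * g⁻¹ = (g * η ^ i' * g⁻¹) * (g * z ^ j'' * g⁻¹) by group, hgηi,
          ← conj_zpow, hgz, (hζc l _).mul_zpow, (hηz.zpow_left bl).mul_zpow, ← zpow_mul, ← zpow_mul] at h1
        have h2 : η ^ (bl * j'') * z ^ (P * (k * i' + l * j'')) = 1 := by
          have e : η ^ i' * (η ^ (bl * j'') * z ^ j'' * (ζ ^ (k * i') * ζ ^ (l * j''))) = η ^ i' * z ^ j'' := by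
            rw [← h1, mul_assoc (η ^ i') (ζ ^ (k * i')), ← mul_assoc (ζ ^ (k * i')) (η ^ (bl * j'') * z ^ j''),
              ← (hζc (k * i') (η ^ (bl * j'') * z ^ j'')).eq]
            group
          have e2 := mul_left_cancel e
          rw [← zpow_add, (hηz.zpow_zpow _ _).eq, mul_assoc, mul_eq_left] at e2
          rwa [hzP]
        obtain ⟨hbj, hP2⟩ := huniq _ _ h2
        obtain ⟨t, rfl⟩ := ((Nat.prime_iff_prime_int.mp hp).dvd_or_dvd hbj).resolve_left hb
        rw [hq, Nat.cast_mul, ← hP] at hP2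
        have h3 := (mul_dvd_mul_iff_left (by rw [hP]; exact_mod_cast (pow_pos hp.pos _).ne')).mp hP2
        have hi' : (p : ℤ) ∣ i' := by
          have h4 : (p : ℤ) ∣ l * ((p : ℤ) * t) := Dvd.dvd.mul_left (Dvd.intro t rfl) l
          exact ((Nat.prime_iff_prime_int.mp hp).dvd_or_dvd ((dvd_add_left h4).mp h3)).resolve_left hkp
        rw [zpow_congr_of_dvd hηp (j := 0) (by simpa using hi'), zpow_zero, one_mul, zpow_mul, zpow_natCast, hzζ]
        exact Subgroup.zpow_mem_zpowers ζ t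
    · exfalso
      apply hgw
      obtain ⟨u, v, huv⟩ := (Nat.prime_iff_prime_int.mp hp).coprime_iff_not_dvd.mpr hu
      refine Subgroup.mem_zpowers_iff.mpr ⟨v * j', ?_⟩
      rw [← zpow_mul, hij]
      exact zpow_congr_of_dvd hζp ⟨-(j' * u), by linear_combination j' * huv⟩
  · exfalso
    apply hgw
    set Q : ℤ := ((p ^ (n - 4) : ℕ) : ℤ) with hQ
    have hQz : ∀ t : ℤ, (z ^ p) ^ (Q * t) = ζ ^ t := fun t => by
      rw [zpow_mul, hQ, zpow_natCast, ← pow_mul, ← pow_succ', show n - 4 + 1 = n - 3 by omega, hzζ]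
    have hw' : w = (z ^ p) ^ (1 + Q * (k * bl * (p.choose 3 : ℕ))) := by rw [zpow_add, zpow_one, hQz, hw]
    have hcop : IsCoprime ((p ^ (n - 3) : ℕ) : ℤ) (1 + Q * (k * bl * (p.choose 3 : ℕ))) := by
      rw [Nat.cast_pow]
      refine IsCoprime.pow_left ((Nat.prime_iff_prime_int.mp hp).coprime_iff_not_dvd.mpr fun h => ?_)
      have h2 : (p : ℤ) ∣ Q := by rw [hQ]; exact_mod_cast dvd_pow_self p (show n - 4 ≠ 0 by omega)
      exact (Nat.prime_iff_prime_int.mp hp).not_dvd_one ((dvd_add_left (Dvd.dvd.mul_right h2 _)).mp h)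
    obtain ⟨u, v, huv⟩ := hcop
    refine Subgroup.mem_zpowers_iff.mpr ⟨v * j', ?_⟩
    rw [hij, hw', ← zpow_mul]
    have h1 : (z ^ p) ^ p ^ (n - 3) = 1 := by rw [← pow_mul, mul_comm, ← hq, hzq]
    calc (z ^ p) ^ ((1 + Q * (k * bl * (p.choose 3 : ℕ))) * (v * j')) =
        (z ^ p) ^ (((p ^ (n - 3) : ℕ) : ℤ) * (-(u * j')) + j') := by
          congr 1; linear_combination j' * huv
      _ = (z ^ p) ^ j' := by rw [zpow_add, zpow_mul, zpow_natCast, h1, one_zpow, one_mul]

end Frame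

end CfsgLib.Blackburn
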